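import Cfsg.Agent.Lib.Golay.Classes

/-!
Small general lemmas used by several statements about `M24`.
-/

set_option autoImplicit false

namespace CA.Gol
open Cfsg
open scoped Pointwise

theorem card_inf_stab_mul {G X : Type*} [Group G] [MulAction G X] (H : Subgroup G) (x : X) :
    Nat.card ↥(H ⊓ MulAction.stabilizer G x) * (MulAction.orbit H x).ncard = Nat.card H := by
  rw [← MulAction.index_stabilizer, ← (MulAction.stabilizer H x).card_mul_index]
  congr 1
  exact Nat.card_congr ⟨fun g => ⟨⟨g.1, g.2.1⟩, g.2.2⟩, fun g => ⟨g.1.1, g.1.2, g.2⟩, fun _ => rfl, fun _ => rfl⟩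

theorem exists_fix_in {g : Equiv.Perm GolayPt} {p : ℕ} (hp : p.Prime) (hg : g ^ p = 1) {s : Finset GolayPt}
    (hs : g • s = s) (hd : ¬ p ∣ s.card) : ∃ x ∈ s, g x = x := by
  have := Fact.mk hp
  have h : ∀ x, g x ∈ s ↔ x ∈ s := fun x => by
    conv_lhs => rw [← hs]
    exact apply_mem_smul
  obtain ⟨a, ha⟩ := Equiv.Perm.exists_fixed_point_of_prime (p := p) (n := 1) (α := s) (by simpa using hd)
    (σ := g.subtypePerm h) (by
      rw [pow_one, Equiv.Perm.subtypePerm_pow]
      ext x
      simp [hg])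
  exact ⟨a, a.2, congrArg Subtype.val ha⟩

theorem smul_fixS_of_commute {x s : Equiv.Perm GolayPt} (h : x * s = s * x) : x • fixS s = fixS s := by
  rw [← fixS_conj, h, mul_inv_cancel_right]

theorem squareDodecad_eq : Spor.squareDodecad = fs 0x5335f := by
  rw [Spor.squareDodecad, qrWord_eq, support_ind]
  exact congrArg fs (by decide +kernel)

theorem squareDodecad_mem : Spor.squareDodecad ∈ dodecads := by
  rw [squareDodecad_eq]; exact fs_mem_dodecads (by decide +kernel)

theorem commute_iff_code {g h : Equiv.Perm GolayPt} :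
    g * h = h * g ↔ Nat.beq (mul (code g) (code h)) (mul (code h) (code g)) = true := by
  rw [beq_iff, ← code_mul, ← code_mul, code_injective.eq_iff]

theorem ap_comm {g h k : Equiv.Perm GolayPt} (e : g * h = k * g) {i : ℕ} (hi : i < 24) :
    ap (code g) (ap (code h) i) = ap (code k) (ap (code g) i) := by
  rw [← ap_mul_code _ _ hi, e, ap_mul_code _ _ hi]

theorem pass23 {ok : List ℕ → Bool} {c : ℕ} : Pass ok [L2, L3, L4, L5, L6, L7] c [] ↔
    ok [ap c 0] = true ∧ ok [ap c 1, ap c 0] = true ∧
    ok [ap c 2, ap c 1, ap c 0] = true ∧ ok [ap c 3, ap c 2, ap c 1, ap c 0] = true ∧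
    ok [ap c 4, ap c 3, ap c 2, ap c 1, ap c 0] = true ∧
    ok [ap c 5, ap c 4, ap c 3, ap c 2, ap c 1, ap c 0] = true := by
  have e2 : L2.1 = 0 := by decide +kernel
  have e3 : L3.1 = 1 := by decide +kernel
  have e4 : L4.1 = 2 := by decide +kernel
  have e5 : L5.1 = 3 := by decide +kernel
  have e6 : L6.1 = 4 := by decide +kernel
  have e7 : L7.1 = 5 := by decide +kernel
  simp only [Pass, and_true, e2, e3, e4, e5, e6, e7]

theorem fixes23 {g : Equiv.Perm GolayPt} : Fixes g [23] ↔ g none = none := by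
  simp only [fixes_cons, fixes_nil, and_true]; rfl

end CA.Gol
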