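import Cfsg.Prelude.Def_SporadicCombinatorics
import Cfsg.Prelude.Def_Spor_Mathieu

/-!
Kernel-computation layer for the 24 points `GolayPt`:
permutations are coded as naturals (24 digits in base 32), finsets as 24-bit masks.
-/

set_option autoImplicit false

namespace CA.Gol
open Cfsg
open scoped Pointwise

/-! ### Points -/

/-- index of a point -/
def ix : GolayPt → ℕ
  | none => 23
  | some x => x.val

/-- point with a given index -/
def pt (n : ℕ) : GolayPt := if n = 23 then none else some (n : ZMod 23)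

theorem ix_lt (p : GolayPt) : ix p < 24 := by revert p; decide
@[simp] theorem pt_ix (p : GolayPt) : pt (ix p) = p := by revert p; decide
theorem ix_pt {n : ℕ} (h : n < 24) : ix (pt n) = n := by
  have : ∀ i : Fin 24, ix (pt i) = i := by decide
  exact this ⟨n, h⟩
theorem ix_inj {p q : GolayPt} (h : ix p = ix q) : p = q := by
  rw [← pt_ix p, h, pt_ix]
theorem ix_injective : Function.Injective ix := fun _ _ => ix_inj
theorem pt_inj {a b : ℕ} (ha : a < 24) (hb : b < 24) (h : pt a = pt b) : a = b := by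
  rw [← ix_pt ha, h, ix_pt hb]
theorem eq_pt_iff {p : GolayPt} {a : ℕ} (ha : a < 24) : p = pt a ↔ ix p = a :=
  ⟨fun h => by rw [h, ix_pt ha], fun h => by rw [← h, pt_ix]⟩
theorem card_golayPt : Fintype.card GolayPt = 24 := by decide

/-- the equivalence with `Fin 24` -/
def ptEquiv : GolayPt ≃ Fin 24 where
  toFun p := ⟨ix p, ix_lt p⟩
  invFun i := pt i
  left_inv p := pt_ix p
  right_inv i := Fin.ext (ix_pt i.2)

theorem forall_pt {P : GolayPt → Prop} : (∀ p, P p) ↔ ∀ i < 24, P (pt i) :=
  ⟨fun h i _ => h _, fun h p => by rw [← pt_ix p]; exact h _ (ix_lt p)⟩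

theorem sum_pt {M : Type*} [AddCommMonoid M] (f : GolayPt → M) :
    ∑ p, f p = ∑ i ∈ Finset.range 24, f (pt i) := by
  rw [← Fin.sum_univ_eq_sum_range (fun i => f (pt i)) 24]
  exact Fintype.sum_equiv ptEquiv _ _ (fun p => by simp [ptEquiv])

/-! ### Loops -/

theorem beq_iff {a b : ℕ} : Nat.beq a b = true ↔ a = b := Nat.beq_eq ▸ Iff.rfl
theorem ble_iff {a b : ℕ} : Nat.ble a b = true ↔ a ≤ b := Nat.ble_eq ▸ Iff.rfl
theorem blt_iff {a b : ℕ} : Nat.blt a b = true ↔ a < b := Nat.blt_eq ▸ Iff.rfl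
theorem beq_false_iff {a b : ℕ} : Nat.beq a b = false ↔ a ≠ b := by
  rw [← Bool.not_eq_true, beq_iff]
theorem ble_false_iff {a b : ℕ} : Nat.ble a b = false ↔ b < a := by
  rw [← Bool.not_eq_true, ble_iff, not_le]

/-- evaluate `x` to a literal before passing it on -/
def force {β : Type} (x : ℕ) (f : ℕ → β) : β := Nat.rec (f 0) (fun n _ => f (Nat.succ n)) x

@[simp] theorem force_eq {β : Type} (x : ℕ) (f : ℕ → β) : force x f = f x := by
  cases x <;> rfl

/-- binary-splitting sum of `f i` over `b ≤ i < min n (b + 2 ^ k)` (for `b < n`) -/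
def sumB (f : ℕ → ℕ) (n k : ℕ) : ℕ → ℕ :=
  Nat.rec (fun b => f b)
    (fun k ih b => Nat.add (ih b) (force (Nat.add b (Nat.pow 2 k)) fun b' => Bool.rec (ih b') 0 (Nat.ble n b'))) k

theorem sumB_eq (f : ℕ → ℕ) (n k b : ℕ) (hb : b < n) :
    sumB f n k b = ∑ i ∈ Finset.Ico b (min n (b + 2 ^ k)), f i := by
  induction k generalizing b with
  | zero =>
    rw [pow_zero, min_eq_right (by omega), Nat.Ico_succ_singleton, Finset.sum_singleton]; rfl
  | succ k ih =>
    have e : sumB f n (k + 1) b = sumB f n k b + Bool.rec (sumB f n k (b + 2 ^ k)) 0 (Nat.ble n (b + 2 ^ k)) := by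
      simp only [sumB, force_eq]; rfl
    have hp := Nat.two_pow_pos k
    rw [e, ih b hb, pow_succ]
    cases h : Nat.ble n (b + 2 ^ k)
    · rw [ble_false_iff] at h
      show _ + sumB f n k (b + 2 ^ k) = _
      rw [ih _ h, min_eq_right h.le, Finset.sum_Ico_consecutive _ (by omega) (by omega)]
      congr 3; omega
    · rw [ble_iff] at h
      rw [min_eq_left h, min_eq_left (by omega)]; rfl

/-- `∑ i < n, f i` -/
def sumLt (f : ℕ → ℕ) (n : ℕ) : ℕ := Bool.rec (sumB f n (Nat.succ (Nat.log2 n)) 0) 0 (Nat.beq n 0)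

theorem sumLt_eq (f : ℕ → ℕ) (n : ℕ) : sumLt f n = ∑ i ∈ Finset.range n, f i := by
  unfold sumLt
  cases h : Nat.beq n 0
  · rw [beq_false_iff] at h
    show sumB f n (Nat.log2 n + 1) 0 = _
    rw [sumB_eq f n _ 0 (by omega), zero_add, min_eq_left Nat.lt_log2_self.le, Finset.range_eq_Ico]
  · rw [beq_iff.1 h]; rfl

/-- number of `i < n` with `f i` -/
def countLt (f : ℕ → Bool) (n : ℕ) : ℕ := sumLt (fun i => Bool.rec 0 1 (f i)) n

theorem countLt_eq (f : ℕ → Bool) (n : ℕ) :
    countLt f n = ((Finset.range n).filter fun i => f i = true).card := by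
  rw [countLt, sumLt_eq, Finset.card_filter]
  apply Finset.sum_congr rfl
  intro i _
  cases f i <;> rfl

/-- binary-splitting conjunction of `f i` over `b ≤ i < min n (b + 2 ^ k)` (for `b < n`) -/
def allB (f : ℕ → Bool) (n k : ℕ) : ℕ → Bool :=
  Nat.rec (fun b => f b)
    (fun k ih b => Bool.rec false
      (force (Nat.add b (Nat.pow 2 k)) fun b' => Bool.rec (ih b') true (Nat.ble n b')) (ih b)) k

theorem allB_iff (f : ℕ → Bool) (n k b : ℕ) (hb : b < n) :
    allB f n k b = true ↔ ∀ i, b ≤ i → i < n → i < b + 2 ^ k → f i = true := by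
  induction k generalizing b with
  | zero =>
    show f b = true ↔ _
    constructor
    · intro h i h1 _ h3
      rw [show i = b by omega]; exact h
    · intro h; exact h b le_rfl hb (by omega)
  | succ k ih =>
    have e : allB f n (k + 1) b = (allB f n k b && (Nat.ble n (b + 2 ^ k) || allB f n k (b + 2 ^ k))) := by
      have e0 : allB f n (k + 1) b = (Bool.rec false (force (b + 2 ^ k) fun b' =>
          (Bool.rec (allB f n k b') true (Nat.ble n b') : Bool)) (allB f n k b) : Bool) := rfl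
      rw [e0, force_eq]
      cases allB f n k b <;> cases Nat.ble n (b + 2 ^ k) <;> rfl
    have hp := Nat.two_pow_pos k
    rw [e, Bool.and_eq_true, Bool.or_eq_true, ih b hb, ble_iff, pow_succ]
    constructor
    · rintro ⟨h1, h2⟩ i i1 i2 i3
      by_cases hi : i < b + 2 ^ k
      · exact h1 i i1 i2 hi
      · rcases h2 with h2 | h2
        · omega
        · exact (ih _ (by omega)).1 h2 i (by omega) i2 (by omega)
    · intro h
      refine ⟨fun i i1 i2 i3 => h i i1 i2 (by omega), ?_⟩
      by_cases hn : n ≤ b + 2 ^ k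
      · exact Or.inl hn
      · exact Or.inr ((ih _ (by omega)).2 fun i i1 i2 i3 => h i (by omega) i2 (by omega))

/-- `f i` for all `i < n` -/
def allLt (f : ℕ → Bool) (n : ℕ) : Bool := Bool.rec (allB f n (Nat.succ (Nat.log2 n)) 0) true (Nat.beq n 0)

theorem allLt_iff {f : ℕ → Bool} {n : ℕ} : allLt f n = true ↔ ∀ i < n, f i = true := by
  unfold allLt
  cases h : Nat.beq n 0
  · rw [beq_false_iff] at h
    show allB f n (Nat.log2 n + 1) 0 = true ↔ _
    rw [allB_iff f n _ 0 (by omega)]
    have := Nat.lt_log2_self (n := n)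
    exact ⟨fun h i hi => h i (by omega) hi (by omega), fun h i _ hi _ => h i hi⟩
  · rw [beq_iff.1 h]; simp

/-- `f i` for some `i < n` -/
def anyLt (f : ℕ → Bool) (n : ℕ) : Bool := !(allLt (fun i => !(f i)) n)

theorem anyLt_iff {f : ℕ → Bool} {n : ℕ} : anyLt f n = true ↔ ∃ i < n, f i = true := by
  rw [anyLt, Bool.not_eq_true', ← Bool.not_eq_true, allLt_iff]
  simp

/-- Boolean bit test -/
def tb (m i : ℕ) : Bool := Nat.beq (Nat.land (Nat.shiftRight m i) 1) 1

theorem tb_eq (m i : ℕ) : tb m i = m.testBit i := by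
  have h : Nat.land (Nat.shiftRight m i) 1 = (m >>> i) % 2 := Nat.and_one_is_mod _
  rw [tb, h, Nat.testBit, Nat.one_and_eq_mod_two]
  rcases Nat.mod_two_eq_zero_or_one (m >>> i) with h | h <;> rw [h] <;> rfl

/-- field `i` of width `w` in the table `T` -/
def fld (w T i : ℕ) : ℕ := Nat.mod (Nat.shiftRight T (Nat.mul w i)) (Nat.pow 2 w)

theorem fld_lt (w T i : ℕ) : fld w T i < 2 ^ w := Nat.mod_lt _ (Nat.two_pow_pos w)

/-! ### Horner sums -/

/-- `∑ i < n, f (k + i) * B ^ i` -/
def horner (B : ℕ) (f : ℕ → ℕ) : ℕ → ℕ → ℕ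
  | 0, _ => 0
  | n + 1, k => Nat.add (f k) (Nat.mul B (horner B f n (k + 1)))

theorem horner_succ (B : ℕ) (f : ℕ → ℕ) (n k : ℕ) :
    horner B f (n + 1) k = f k + B * horner B f n (k + 1) := rfl

theorem horner_congr {B : ℕ} {f g : ℕ → ℕ} {n k : ℕ} (h : ∀ i < n, f (k + i) = g (k + i)) :
    horner B f n k = horner B g n k := by
  induction n generalizing k with
  | zero => rfl
  | succ n ih =>
    rw [horner_succ, horner_succ, ih (k := k + 1) fun i hi => by
      have := h (i + 1) (by omega); rwa [show k + (i + 1) = k + 1 + i by omega] at this]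
    have := h 0 (by omega)
    simp only [add_zero] at this
    rw [this]

theorem horner_lt {B : ℕ} {f : ℕ → ℕ} {n k : ℕ} (h : ∀ i < n, f (k + i) < B) :
    horner B f n k < B ^ n := by
  induction n generalizing k with
  | zero => simp [horner]
  | succ n ih =>
    have h0 := h 0 (by omega)
    have h1 := ih (k := k + 1) fun i hi => by
      have := h (i + 1) (by omega); rwa [show k + (i + 1) = k + 1 + i by omega] at this
    rw [horner_succ, pow_succ']
    simp only [add_zero] at h0
    nlinarith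

theorem horner_digit {B : ℕ} {f : ℕ → ℕ} {n k : ℕ} (h : ∀ i < n, f (k + i) < B) {i : ℕ} (hi : i < n) :
    horner B f n k / B ^ i % B = f (k + i) := by
  induction n generalizing k i with
  | zero => omega
  | succ n ih =>
    have h0 := h 0 (by omega)
    simp only [add_zero] at h0
    rw [horner_succ]
    cases i with
    | zero => simp [Nat.mod_eq_of_lt h0]
    | succ i =>
      have hB : 0 < B := by omega
      rw [pow_succ', ← Nat.div_div_eq_div_mul, Nat.add_mul_div_left _ _ hB, Nat.div_eq_of_lt h0, zero_add,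
        ih (k := k + 1) (fun i hi => by
          have := h (i + 1) (by omega); rwa [show k + (i + 1) = k + 1 + i by omega] at this) (by omega)]
      congr 1; omega

theorem horner_digits (B c n k : ℕ) :
    horner B (fun i => c / B ^ i % B) n k = c / B ^ k % B ^ n := by
  induction n generalizing k with
  | zero => simp [horner, Nat.mod_one]
  | succ n ih =>
    rw [horner_succ, ih, pow_succ' B n, Nat.mod_mul, pow_succ, Nat.div_div_eq_div_mul]

theorem mul_horner (a B : ℕ) (f : ℕ → ℕ) (n k : ℕ) :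
    a * horner B f n k = horner B (fun i => a * f i) n k := by
  induction n generalizing k with
  | zero => rfl
  | succ n ih => rw [horner_succ, horner_succ, ← ih]; ring

theorem land_two_pow_add {L x y u v : ℕ} (hx : x < 2 ^ L) (hu : u < 2 ^ L) :
    (x + 2 ^ L * y) &&& (u + 2 ^ L * v) = (x &&& u) + 2 ^ L * (y &&& v) := by
  apply Nat.eq_of_testBit_eq
  intro i
  have hxu : x &&& u < 2 ^ L := lt_of_le_of_lt Nat.and_le_left hx
  rw [Nat.testBit_and, add_comm x, add_comm u, add_comm (x &&& u), Nat.testBit_two_pow_mul_add _ hx,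
    Nat.testBit_two_pow_mul_add _ hu, Nat.testBit_two_pow_mul_add _ hxu]
  split_ifs <;> simp

theorem land_horner {L : ℕ} {f g : ℕ → ℕ} {n k : ℕ} (hf : ∀ i < n, f (k + i) < 2 ^ L)
    (hg : ∀ i < n, g (k + i) < 2 ^ L) :
    horner (2 ^ L) f n k &&& horner (2 ^ L) g n k = horner (2 ^ L) (fun i => f i &&& g i) n k := by
  induction n generalizing k with
  | zero => simp [horner]
  | succ n ih =>
    have h0 := hf 0 (by omega)
    have h1 := hg 0 (by omega)
    simp only [add_zero] at h0 h1
    rw [horner_succ, horner_succ, horner_succ, land_two_pow_add h0 h1, ih]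
    · intro i hi
      have := hf (i + 1) (by omega); rwa [show k + (i + 1) = k + 1 + i by omega] at this
    · intro i hi
      have := hg (i + 1) (by omega); rwa [show k + (i + 1) = k + 1 + i by omega] at this

theorem horner_modEq {B B' M : ℕ} (h : B ≡ B' [MOD M]) (f : ℕ → ℕ) (n k : ℕ) :
    horner B f n k ≡ horner B' f n k [MOD M] := by
  induction n generalizing k with
  | zero => rfl
  | succ n ih => rw [horner_succ, horner_succ]; exact (Nat.ModEq.refl _).add (h.mul (ih _))

/-- the gather trick: window `[s, s+w)` of every block of width `L`, compressed to stride `w`. -/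
theorem gather {L s w n : ℕ} {f : ℕ → ℕ} (hf : ∀ i < n, f i < 2 ^ L) (hs : s + w ≤ L)
    (hn : w * n < L - w) :
    ((horner (2 ^ L) f n 0 &&& horner (2 ^ L) (fun _ => (2 ^ w - 1) * 2 ^ s) n 0) >>> s) % (2 ^ (L - w) - 1)
      = horner (2 ^ w) (fun i => f i / 2 ^ s % 2 ^ w) n 0 := by
  have hw : 0 < 2 ^ w := Nat.two_pow_pos w
  have hm : (2 ^ w - 1) * 2 ^ s < 2 ^ L := by
    calc (2 ^ w - 1) * 2 ^ s < 2 ^ w * 2 ^ s := by
          apply Nat.mul_lt_mul_of_pos_right (by omega) (Nat.two_pow_pos s)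
      _ = 2 ^ (s + w) := by rw [pow_add, mul_comm]
      _ ≤ 2 ^ L := Nat.pow_le_pow_right (by norm_num) hs
  rw [land_horner (by simpa using hf) (fun _ _ => hm)]
  have h1 : ∀ x : ℕ, x &&& ((2 ^ w - 1) * 2 ^ s) = 2 ^ s * (x / 2 ^ s % 2 ^ w) := by
    intro x
    apply Nat.eq_of_testBit_eq
    intro j
    rw [Nat.testBit_and, Nat.testBit_mul_two_pow, Nat.testBit_two_pow_mul, Nat.testBit_two_pow_sub_one,
      Nat.testBit_mod_two_pow, Nat.testBit_div_two_pow]
    by_cases hj : s ≤ j
    · simp [hj, Bool.and_comm]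
    · simp [hj]
  simp only [h1]
  rw [← mul_horner, Nat.shiftRight_eq_div_pow, Nat.mul_div_cancel_left _ (Nat.two_pow_pos s)]
  have h2 : 2 ^ L ≡ 2 ^ w [MOD 2 ^ (L - w) - 1] := by
    have h3 : 2 ^ (L - w) ≡ 1 [MOD 2 ^ (L - w) - 1] :=
      ((Nat.modEq_iff_dvd' (Nat.two_pow_pos _)).2 dvd_rfl).symm
    have := h3.mul_right (2 ^ w)
    rwa [← pow_add, one_mul, Nat.sub_add_cancel (by omega)] at this
  rw [horner_modEq h2, Nat.mod_eq_of_lt]
  have h4 := horner_lt (B := 2 ^ w) (f := fun i => f i / 2 ^ s % 2 ^ w) (n := n) (k := 0)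
    (fun i _ => Nat.mod_lt _ hw)
  rw [← pow_mul] at h4
  have h5 : 2 ^ (w * n + 1) ≤ 2 ^ (L - w) := Nat.pow_le_pow_right (by norm_num) hn
  have h6 := Nat.two_pow_pos (w * n)
  rw [pow_succ] at h5
  omega

theorem gather_form (a e M M' s N N' : ℕ) (h1 : M = M') (h2 : N = N') :
    Nat.mod (Nat.shiftRight (Nat.land (Nat.mul a e) M) s) N = ((a * e &&& M') >>> s) % N' := by
  subst h1 h2; rfl

theorem mul_pow_sub_div (a : ℕ) {s t : ℕ} (h : t ≤ s) : a * 2 ^ (s - t) / 2 ^ s = a / 2 ^ t := by
  obtain ⟨u, rfl⟩ := Nat.exists_eq_add_of_le h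
  rw [Nat.add_sub_cancel_left, pow_add, Nat.mul_div_mul_right _ _ (Nat.two_pow_pos _)]

/-! ### Or-sums -/

/-- `f 0 ||| ... ||| f (n-1)` -/
def orl (f : ℕ → ℕ) : ℕ → ℕ
  | 0 => 0
  | n + 1 => Nat.lor (orl f n) (f n)

theorem testBit_orl (f : ℕ → ℕ) (n j : ℕ) : (orl f n).testBit j = true ↔ ∃ i < n, (f i).testBit j = true := by
  induction n with
  | zero => simp [orl]
  | succ n ih =>
    have : orl f (n + 1) = orl f n ||| f n := rfl
    rw [this, Nat.testBit_or, Bool.or_eq_true, ih]
    constructor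
    · rintro (⟨i, hi, h⟩ | h)
      · exact ⟨i, by omega, h⟩
      · exact ⟨n, by omega, h⟩
    · rintro ⟨i, hi, h⟩
      rcases Nat.lt_succ_iff_lt_or_eq.1 hi with h' | h'
      · exact Or.inl ⟨i, h', h⟩
      · right; rw [← h']; exact h

/-! ### Finsets as masks -/

/-- the finset with a given mask -/
def fs (m : ℕ) : Finset GolayPt := Finset.univ.filter fun p => m.testBit (ix p) = true

@[simp] theorem mem_fs {m : ℕ} {p : GolayPt} : p ∈ fs m ↔ m.testBit (ix p) = true := by simp [fs]

theorem pt_mem_fs {m i : ℕ} (hi : i < 24) : pt i ∈ fs m ↔ tb m i = true := by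
  rw [mem_fs, ix_pt hi, tb_eq]

/-- the mask of a finset -/
def mask (s : Finset GolayPt) : ℕ := orl (fun i => if pt i ∈ s then 2 ^ i else 0) 24

theorem testBit_mask (s : Finset GolayPt) (j : ℕ) : (mask s).testBit j = true ↔ j < 24 ∧ pt j ∈ s := by
  rw [mask, testBit_orl]
  constructor
  · rintro ⟨i, hi, h⟩
    split_ifs at h with h'
    · rw [Nat.testBit_two_pow] at h
      simp only [decide_eq_true_eq] at h
      subst h; exact ⟨hi, h'⟩
    · simp at h
  · rintro ⟨h1, h2⟩
    exact ⟨j, h1, by rw [if_pos h2, Nat.testBit_two_pow_self]⟩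

theorem lt_of_testBit {m n : ℕ} (h : ∀ j, m.testBit j = true → j < n) : m < 2 ^ n := by
  apply Nat.lt_pow_two_of_testBit
  intro i hi
  by_contra h'
  have := h i (by simpa using h')
  omega

theorem mask_lt (s : Finset GolayPt) : mask s < 2 ^ 24 :=
  lt_of_testBit fun j hj => ((testBit_mask s j).1 hj).1

@[simp] theorem fs_mask (s : Finset GolayPt) : fs (mask s) = s := by
  ext p; rw [mem_fs, testBit_mask, pt_ix]; simp [ix_lt]

theorem fs_inj {a b : ℕ} (ha : a < 2 ^ 24) (hb : b < 2 ^ 24) (h : fs a = fs b) : a = b := by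
  apply Nat.eq_of_testBit_eq
  intro i
  by_cases hi : i < 24
  · have := congrArg (fun s => pt i ∈ s) h
    simp only [mem_fs, ix_pt hi, eq_iff_iff] at this
    exact Bool.eq_iff_iff.2 this
  · rw [Nat.testBit_eq_false_of_lt (lt_of_lt_of_le ha (Nat.pow_le_pow_right (by norm_num) (by omega))),
      Nat.testBit_eq_false_of_lt (lt_of_lt_of_le hb (Nat.pow_le_pow_right (by norm_num) (by omega)))]

theorem mask_fs {m : ℕ} (hm : m < 2 ^ 24) : mask (fs m) = m := fs_inj (mask_lt _) hm (fs_mask _)

theorem mask_inj {s t : Finset GolayPt} (h : mask s = mask t) : s = t := by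
  rw [← fs_mask s, h, fs_mask]

theorem fs_land (a b : ℕ) : fs (Nat.land a b) = fs a ∩ fs b := by
  ext p; show _ ∈ fs (a &&& b) ↔ _; simp
theorem fs_lor (a b : ℕ) : fs (Nat.lor a b) = fs a ∪ fs b := by
  ext p; show _ ∈ fs (a ||| b) ↔ _; simp
theorem fs_xor (a b : ℕ) : fs (Nat.xor a b) = symmDiff (fs a) (fs b) := by
  ext p; show _ ∈ fs (a ^^^ b) ↔ _
  simp only [mem_fs, Nat.testBit_xor, Finset.mem_symmDiff]
  cases a.testBit (ix p) <;> cases b.testBit (ix p) <;> simp
theorem fs_full : fs 16777215 = Finset.univ := by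
  ext p
  have : (16777215 : ℕ) = 2 ^ 24 - 1 := by norm_num
  rw [mem_fs, this, Nat.testBit_two_pow_sub_one]; simp [ix_lt]
theorem fs_zero : fs 0 = ∅ := by ext p; simp
theorem fs_compl (a : ℕ) : fs (Nat.xor a 16777215) = Finset.univ \ fs a := by
  rw [fs_xor, fs_full]; ext p; simp [Finset.mem_symmDiff]
theorem fs_two_pow {i : ℕ} (hi : i < 24) : fs (Nat.pow 2 i) = {pt i} := by
  ext p
  show _ ∈ fs (2 ^ i) ↔ _
  rw [mem_fs, Nat.testBit_two_pow, Finset.mem_singleton, eq_pt_iff hi]
  simp [eq_comm]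
theorem land_lt {a b : ℕ} (ha : a < 2 ^ 24) : Nat.land a b < 2 ^ 24 := lt_of_le_of_lt Nat.and_le_left ha
theorem xor_lt {a b : ℕ} (ha : a < 2 ^ 24) (hb : b < 2 ^ 24) : Nat.xor a b < 2 ^ 24 := Nat.xor_lt_two_pow ha hb
theorem lor_lt {a b : ℕ} (ha : a < 2 ^ 24) (hb : b < 2 ^ 24) : Nat.lor a b < 2 ^ 24 := Nat.or_lt_two_pow ha hb
theorem fs_subset_iff {a b : ℕ} (ha : a < 2 ^ 24) : fs a ⊆ fs b ↔ Nat.land a b = a := by
  rw [← Finset.inter_eq_left, ← fs_land]
  exact ⟨fs_inj (land_lt ha) ha, fun h => by rw [h]⟩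
theorem fs_disjoint_iff {a b : ℕ} (ha : a < 2 ^ 24) : Disjoint (fs a) (fs b) ↔ Nat.land a b = 0 := by
  rw [Finset.disjoint_iff_inter_eq_empty, ← fs_land, ← fs_zero]
  exact ⟨fs_inj (land_lt ha) (by norm_num), fun h => by rw [h]⟩

/-! ### Population count -/

/-- slow population count of the low `n` bits -/
def popN (m : ℕ) : ℕ → ℕ
  | 0 => 0
  | n + 1 => Nat.add (popN m n) (Nat.land (Nat.shiftRight m n) 1)

/-- population count of a 12-bit number -/
def pop12 (x : ℕ) : ℕ := Nat.mod (Nat.land (Nat.mul x 0x1001001001001) 0x84210842108421) 31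

/-- population count of the low 24 bits -/
def popc (m : ℕ) : ℕ := Nat.add (pop12 (Nat.land m 4095)) (pop12 (Nat.land (Nat.shiftRight m 12) 4095))

theorem pop12_check : allLt (fun x => Nat.beq (pop12 x) (popN x 12)) 4096 = true := by decide +kernel

theorem popN_eq (m n : ℕ) : popN m n = ∑ i ∈ Finset.range n, if m.testBit i = true then 1 else 0 := by
  induction n with
  | zero => rfl
  | succ n ih =>
    rw [Finset.sum_range_succ, ← ih]
    show popN m n + ((m >>> n) &&& 1) = _
    congr 1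
    rw [Nat.and_one_is_mod, Nat.testBit, Nat.one_and_eq_mod_two]
    rcases Nat.mod_two_eq_zero_or_one (m >>> n) with h | h <;> rw [h] <;> rfl

theorem card_fs (m : ℕ) : (fs m).card = popc m := by
  have h12 : ∀ x : ℕ, pop12 (Nat.land x 4095) = ∑ i ∈ Finset.range 12, if x.testBit i = true then 1 else 0 := by
    intro x
    have hx : Nat.land x 4095 < 4096 := lt_of_le_of_lt Nat.and_le_right (by norm_num)
    rw [beq_iff.1 (allLt_iff.1 pop12_check _ hx), popN_eq]
    apply Finset.sum_congr rfl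
    intro i hi
    have : (Nat.land x 4095).testBit i = x.testBit i := by
      show (x &&& (2 ^ 12 - 1)).testBit i = _
      rw [Nat.testBit_and, Nat.testBit_two_pow_sub_one]
      simp [Finset.mem_range.1 hi]
    rw [this]
  rw [fs, Finset.card_filter, sum_pt, popc, h12, h12, show 24 = 12 + 12 from rfl, Finset.sum_range_add]
  rw [Nat.add_eq]
  refine congrArg₂ (· + ·) ?_ ?_
  · apply Finset.sum_congr rfl
    intro i hi
    rw [ix_pt (by have := Finset.mem_range.1 hi; omega)]
  · apply Finset.sum_congr rfl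
    intro i hi
    rw [ix_pt (by have := Finset.mem_range.1 hi; omega)]
    have : (Nat.shiftRight m 12).testBit i = m.testBit (12 + i) := Nat.testBit_shiftRight m
    rw [this]

/-! ### Permutations as codes -/

/-- digit `i` of the code `c` -/
def ap (c i : ℕ) : ℕ := Nat.land (Nat.shiftRight c (Nat.mul 5 i)) 31

theorem ap_eq (c i : ℕ) : ap c i = c / 32 ^ i % 32 := by
  show (c >>> (5 * i)) &&& (2 ^ 5 - 1) = _
  rw [Nat.and_two_pow_sub_one_eq_mod, Nat.shiftRight_eq_div_pow, pow_mul]; rfl

theorem ap_lt (c i : ℕ) : ap c i < 32 := by rw [ap_eq]; exact Nat.mod_lt _ (by norm_num)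

/-- the code of a permutation -/
def code (g : Equiv.Perm GolayPt) : ℕ := horner 32 (fun i => ix (g (pt i))) 24 0

theorem ap_horner {f : ℕ → ℕ} (hf : ∀ i < 24, f i < 32) {i : ℕ} (hi : i < 24) :
    ap (horner 32 f 24 0) i = f i := by
  rw [ap_eq, horner_digit (by simpa using hf) hi, zero_add]

theorem ap_code (g : Equiv.Perm GolayPt) {i : ℕ} (hi : i < 24) : ap (code g) i = ix (g (pt i)) :=
  ap_horner (fun i _ => lt_trans (ix_lt _) (by norm_num)) hi

theorem ap_code_ix (g : Equiv.Perm GolayPt) (p : GolayPt) : ap (code g) (ix p) = ix (g p) := by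
  rw [ap_code g (ix_lt p), pt_ix]

theorem apply_pt (g : Equiv.Perm GolayPt) {i : ℕ} (hi : i < 24) : g (pt i) = pt (ap (code g) i) := by
  rw [ap_code g hi, pt_ix]

theorem ap_code_lt (g : Equiv.Perm GolayPt) {i : ℕ} (hi : i < 24) : ap (code g) i < 24 := by
  rw [ap_code g hi]; exact ix_lt _

theorem code_lt (g : Equiv.Perm GolayPt) : code g < 32 ^ 24 :=
  horner_lt fun i _ => lt_trans (ix_lt _) (by norm_num)

theorem code_inj {g h : Equiv.Perm GolayPt} (e : code g = code h) : g = h := by
  ext p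
  have := ap_code_ix g p
  rw [e, ap_code_ix] at this
  rw [ix_inj this]

theorem code_injective : Function.Injective code := fun _ _ => code_inj

theorem eq_of_ap {a b : ℕ} (ha : a < 32 ^ 24) (hb : b < 32 ^ 24) (h : ∀ i < 24, ap a i = ap b i) : a = b := by
  have e : ∀ c : ℕ, c < 32 ^ 24 → c = horner 32 (ap c) 24 0 := by
    intro c hc
    have : ap c = fun i => c / 32 ^ i % 32 := funext (ap_eq c)
    rw [this, horner_digits, pow_zero, Nat.div_one, Nat.mod_eq_of_lt hc]
  rw [e a ha, e b hb]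
  exact horner_congr fun i hi => by simpa using h i hi

/-- expanded form of a code, for use as the right factor of a product -/
def expand (b : ℕ) : ℕ :=
    (Nat.add (Nat.shiftLeft 1 (Nat.sub 115 (Nat.mul 5 (Nat.land (Nat.shiftRight b 0) 31)))) (Nat.mul
    0x1000000000000000000000000000000000000000000000000000000000000 (Nat.add (Nat.shiftLeft 1 (Nat.sub 115
    (Nat.mul 5 (Nat.land (Nat.shiftRight b 5) 31)))) (Nat.mul
    0x1000000000000000000000000000000000000000000000000000000000000 (Nat.add (Nat.shiftLeft 1 (Nat.sub 115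
    (Nat.mul 5 (Nat.land (Nat.shiftRight b 10) 31)))) (Nat.mul
    0x1000000000000000000000000000000000000000000000000000000000000 (Nat.add (Nat.shiftLeft 1 (Nat.sub 115
    (Nat.mul 5 (Nat.land (Nat.shiftRight b 15) 31)))) (Nat.mul
    0x1000000000000000000000000000000000000000000000000000000000000 (Nat.add (Nat.shiftLeft 1 (Nat.sub 115
    (Nat.mul 5 (Nat.land (Nat.shiftRight b 20) 31)))) (Nat.mul
    0x1000000000000000000000000000000000000000000000000000000000000 (Nat.add (Nat.shiftLeft 1 (Nat.sub 115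
    (Nat.mul 5 (Nat.land (Nat.shiftRight b 25) 31)))) (Nat.mul
    0x1000000000000000000000000000000000000000000000000000000000000 (Nat.add (Nat.shiftLeft 1 (Nat.sub 115
    (Nat.mul 5 (Nat.land (Nat.shiftRight b 30) 31)))) (Nat.mul
    0x1000000000000000000000000000000000000000000000000000000000000 (Nat.add (Nat.shiftLeft 1 (Nat.sub 115
    (Nat.mul 5 (Nat.land (Nat.shiftRight b 35) 31)))) (Nat.mul
    0x1000000000000000000000000000000000000000000000000000000000000 (Nat.add (Nat.shiftLeft 1 (Nat.sub 115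
    (Nat.mul 5 (Nat.land (Nat.shiftRight b 40) 31)))) (Nat.mul
    0x1000000000000000000000000000000000000000000000000000000000000 (Nat.add (Nat.shiftLeft 1 (Nat.sub 115
    (Nat.mul 5 (Nat.land (Nat.shiftRight b 45) 31)))) (Nat.mul
    0x1000000000000000000000000000000000000000000000000000000000000 (Nat.add (Nat.shiftLeft 1 (Nat.sub 115
    (Nat.mul 5 (Nat.land (Nat.shiftRight b 50) 31)))) (Nat.mul
    0x1000000000000000000000000000000000000000000000000000000000000 (Nat.add (Nat.shiftLeft 1 (Nat.sub 115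
    (Nat.mul 5 (Nat.land (Nat.shiftRight b 55) 31)))) (Nat.mul
    0x1000000000000000000000000000000000000000000000000000000000000 (Nat.add (Nat.shiftLeft 1 (Nat.sub 115
    (Nat.mul 5 (Nat.land (Nat.shiftRight b 60) 31)))) (Nat.mul
    0x1000000000000000000000000000000000000000000000000000000000000 (Nat.add (Nat.shiftLeft 1 (Nat.sub 115
    (Nat.mul 5 (Nat.land (Nat.shiftRight b 65) 31)))) (Nat.mul
    0x1000000000000000000000000000000000000000000000000000000000000 (Nat.add (Nat.shiftLeft 1 (Nat.sub 115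
    (Nat.mul 5 (Nat.land (Nat.shiftRight b 70) 31)))) (Nat.mul
    0x1000000000000000000000000000000000000000000000000000000000000 (Nat.add (Nat.shiftLeft 1 (Nat.sub 115
    (Nat.mul 5 (Nat.land (Nat.shiftRight b 75) 31)))) (Nat.mul
    0x1000000000000000000000000000000000000000000000000000000000000 (Nat.add (Nat.shiftLeft 1 (Nat.sub 115
    (Nat.mul 5 (Nat.land (Nat.shiftRight b 80) 31)))) (Nat.mul
    0x1000000000000000000000000000000000000000000000000000000000000 (Nat.add (Nat.shiftLeft 1 (Nat.sub 115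
    (Nat.mul 5 (Nat.land (Nat.shiftRight b 85) 31)))) (Nat.mul
    0x1000000000000000000000000000000000000000000000000000000000000 (Nat.add (Nat.shiftLeft 1 (Nat.sub 115
    (Nat.mul 5 (Nat.land (Nat.shiftRight b 90) 31)))) (Nat.mul
    0x1000000000000000000000000000000000000000000000000000000000000 (Nat.add (Nat.shiftLeft 1 (Nat.sub 115
    (Nat.mul 5 (Nat.land (Nat.shiftRight b 95) 31)))) (Nat.mul
    0x1000000000000000000000000000000000000000000000000000000000000 (Nat.add (Nat.shiftLeft 1 (Nat.sub 115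
    (Nat.mul 5 (Nat.land (Nat.shiftRight b 100) 31)))) (Nat.mul
    0x1000000000000000000000000000000000000000000000000000000000000 (Nat.add (Nat.shiftLeft 1 (Nat.sub 115
    (Nat.mul 5 (Nat.land (Nat.shiftRight b 105) 31)))) (Nat.mul
    0x1000000000000000000000000000000000000000000000000000000000000 (Nat.add (Nat.shiftLeft 1 (Nat.sub 115
    (Nat.mul 5 (Nat.land (Nat.shiftRight b 110) 31)))) (Nat.mul
    0x1000000000000000000000000000000000000000000000000000000000000 (Nat.add (Nat.shiftLeft 1 (Nat.sub 115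
    (Nat.mul 5 (Nat.land (Nat.shiftRight b 115) 31)))) (Nat.mul
    0x1000000000000000000000000000000000000000000000000000000000000
    0))))))))))))))))))))))))))))))))))))))))))))))))

/-- product of codes -/
def mul (a b : ℕ) : ℕ :=
  Nat.mod (Nat.shiftRight (Nat.land (Nat.mul a (expand b))
    0xf80000000000000000000000000000000000000000000000000000000000f80000000000000000000000000000000000000000000000000000000000f80000000000000000000000000000000000000000000000000000000000f80000000000000000000000000000000000000000000000000000000000f80000000000000000000000000000000000000000000000000000000000f80000000000000000000000000000000000000000000000000000000000f80000000000000000000000000000000000000000000000000000000000f80000000000000000000000000000000000000000000000000000000000f80000000000000000000000000000000000000000000000000000000000f80000000000000000000000000000000000000000000000000000000000f80000000000000000000000000000000000000000000000000000000000f800000000000000000000000000000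00000000000000000000000000000f80000000000000000000000000000000000000000000000000000000000f80000000000000000000000000000000000000000000000000000000000f80000000000000000000000000000000000000000000000000000000000f80000000000000000000000000000000000000000000000000000000000f80000000000000000000000000000000000000000000000000000000000f80000000000000000000000000000000000000000000000000000000000f80000000000000000000000000000000000000000000000000000000000f80000000000000000000000000000000000000000000000000000000000f80000000000000000000000000000000000000000000000000000000000f80000000000000000000000000000000000000000000000000000000000f80000000000000000000000000000000000000000000000000000000000f80000000000000000000000000000) 115)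
    0x7ffffffffffffffffffffffffffffffffffffffffffffffffffffffffff

theorem mul_eq {a b : ℕ} (ha : a < 32 ^ 24) (hb : ∀ i < 24, ap b i < 24) :
    mul a b = horner 32 (fun i => ap a (ap b i)) 24 0 := by
  have e1 : expand b = horner (2 ^ 240) (fun i => 1 <<< (115 - 5 * ap b i)) 24 0 := rfl
  have e2 : mul a b = ((a * expand b &&& horner (2 ^ 240) (fun _ => (2 ^ 5 - 1) * 2 ^ 115) 24 0) >>> 115) %
      (2 ^ (240 - 5) - 1) := by
    unfold mul
    exact gather_form _ _ _ _ _ _ _ (by decide +kernel) (by decide +kernel)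
  rw [e2, e1, mul_horner, gather (L := 240) (s := 115) (w := 5) _ (by norm_num) (by norm_num)]
  · apply horner_congr
    intro i hi
    simp only [zero_add]
    have := hb i hi
    rw [ap_eq a, Nat.one_shiftLeft, mul_pow_sub_div _ (by omega), pow_mul]
    rfl
  · intro i _
    rw [Nat.one_shiftLeft]
    calc a * 2 ^ (115 - 5 * ap b i) < 32 ^ 24 * 2 ^ (115 - 5 * ap b i) :=
          Nat.mul_lt_mul_of_pos_right ha (Nat.two_pow_pos _)
      _ ≤ 32 ^ 24 * 2 ^ 115 := Nat.mul_le_mul_left _ (Nat.pow_le_pow_right (by norm_num) (by omega))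
      _ ≤ 2 ^ 240 := by norm_num

theorem code_mul (g h : Equiv.Perm GolayPt) : code (g * h) = mul (code g) (code h) := by
  rw [mul_eq (code_lt g) (fun i hi => ap_code_lt h hi), code]
  apply horner_congr
  intro i hi
  simp only [zero_add]
  rw [ap_code h hi, ap_code_ix]; rfl

/-- code of the identity -/
def oneC : ℕ := 0xbdab49ca307b9ac5a928398a418820

theorem code_one : code 1 = oneC := by
  have : oneC = horner 32 (fun i => i) 24 0 := by decide +kernel
  rw [this, code]
  exact horner_congr fun i hi => by simp [ix_pt hi]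

/-- expanded form of a code, for acting on masks -/
def expM (c : ℕ) : ℕ :=
    (Nat.lor (Nat.lor (Nat.lor (Nat.lor (Nat.lor (Nat.lor (Nat.lor (Nat.lor (Nat.lor (Nat.lor (Nat.lor
    (Nat.lor (Nat.lor (Nat.lor (Nat.lor (Nat.lor (Nat.lor (Nat.lor (Nat.lor (Nat.lor (Nat.lor (Nat.lor
    (Nat.lor (Nat.lor 0 (Nat.shiftLeft 1 (Nat.add 23 (Nat.mul 48 (Nat.land (Nat.shiftRight c 0) 31)))))
    (Nat.shiftLeft 1 (Nat.add 22 (Nat.mul 48 (Nat.land (Nat.shiftRight c 5) 31))))) (Nat.shiftLeft 1 (Nat.add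
    21 (Nat.mul 48 (Nat.land (Nat.shiftRight c 10) 31))))) (Nat.shiftLeft 1 (Nat.add 20 (Nat.mul 48 (Nat.land
    (Nat.shiftRight c 15) 31))))) (Nat.shiftLeft 1 (Nat.add 19 (Nat.mul 48 (Nat.land (Nat.shiftRight c 20)
    31))))) (Nat.shiftLeft 1 (Nat.add 18 (Nat.mul 48 (Nat.land (Nat.shiftRight c 25) 31))))) (Nat.shiftLeft 1
    (Nat.add 17 (Nat.mul 48 (Nat.land (Nat.shiftRight c 30) 31))))) (Nat.shiftLeft 1 (Nat.add 16 (Nat.mul 48
    (Nat.land (Nat.shiftRight c 35) 31))))) (Nat.shiftLeft 1 (Nat.add 15 (Nat.mul 48 (Nat.land (Nat.shiftRight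
    c 40) 31))))) (Nat.shiftLeft 1 (Nat.add 14 (Nat.mul 48 (Nat.land (Nat.shiftRight c 45) 31)))))
    (Nat.shiftLeft 1 (Nat.add 13 (Nat.mul 48 (Nat.land (Nat.shiftRight c 50) 31))))) (Nat.shiftLeft 1 (Nat.add
    12 (Nat.mul 48 (Nat.land (Nat.shiftRight c 55) 31))))) (Nat.shiftLeft 1 (Nat.add 11 (Nat.mul 48 (Nat.land
    (Nat.shiftRight c 60) 31))))) (Nat.shiftLeft 1 (Nat.add 10 (Nat.mul 48 (Nat.land (Nat.shiftRight c 65)
    31))))) (Nat.shiftLeft 1 (Nat.add 9 (Nat.mul 48 (Nat.land (Nat.shiftRight c 70) 31))))) (Nat.shiftLeft 1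
    (Nat.add 8 (Nat.mul 48 (Nat.land (Nat.shiftRight c 75) 31))))) (Nat.shiftLeft 1 (Nat.add 7 (Nat.mul 48
    (Nat.land (Nat.shiftRight c 80) 31))))) (Nat.shiftLeft 1 (Nat.add 6 (Nat.mul 48 (Nat.land (Nat.shiftRight
    c 85) 31))))) (Nat.shiftLeft 1 (Nat.add 5 (Nat.mul 48 (Nat.land (Nat.shiftRight c 90) 31)))))
    (Nat.shiftLeft 1 (Nat.add 4 (Nat.mul 48 (Nat.land (Nat.shiftRight c 95) 31))))) (Nat.shiftLeft 1 (Nat.add
    3 (Nat.mul 48 (Nat.land (Nat.shiftRight c 100) 31))))) (Nat.shiftLeft 1 (Nat.add 2 (Nat.mul 48 (Nat.land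
    (Nat.shiftRight c 105) 31))))) (Nat.shiftLeft 1 (Nat.add 1 (Nat.mul 48 (Nat.land (Nat.shiftRight c 110)
    31))))) (Nat.shiftLeft 1 (Nat.add 0 (Nat.mul 48 (Nat.land (Nat.shiftRight c 115) 31)))))

/-- image of a mask under a code -/
def apM (c m : ℕ) : ℕ :=
  Nat.mod (Nat.shiftRight (Nat.land (Nat.mul m (expM c))
    0x800000000000800000000000800000000000800000000000800000000000800000000000800000000000800000000000800000000000800000000000800000000000800000000000800000000000800000000000800000000000800000000000800000000000800000000000800000000000800000000000800000000000800000000000800000000000800000) 23) 0x7fffffffffff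

theorem testBit_horner_two {f : ℕ → ℕ} {n : ℕ} (hf : ∀ i < n, f i < 2) (j : ℕ) :
    (horner 2 f n 0).testBit j = true ↔ j < n ∧ f j = 1 := by
  by_cases hj : j < n
  · rw [Nat.testBit_eq_decide_div_mod_eq, horner_digit (by simpa using hf) hj]; simp [hj]
  · rw [Nat.testBit_eq_false_of_lt]
    · simp [hj]
    · exact lt_of_lt_of_le (horner_lt (by simpa using hf)) (Nat.pow_le_pow_right (by norm_num) (by omega))

theorem expM_code (g : Equiv.Perm GolayPt) :
    expM (code g) = horner (2 ^ 48) (fun j => 2 ^ (23 - ix (g⁻¹ (pt j)))) 24 0 := by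
  have e1 : expM (code g) = orl (fun i => 1 <<< ((23 - i) + 48 * ap (code g) i)) 24 := rfl
  have hf : ∀ i, 2 ^ (23 - ix (g⁻¹ (pt i))) < 2 ^ 48 := fun i =>
    Nat.pow_lt_pow_right (by norm_num) (by omega)
  rw [e1]
  apply Nat.eq_of_testBit_eq
  intro k
  rw [Bool.eq_iff_iff, testBit_orl]
  simp only [Nat.one_shiftLeft, Nat.testBit_two_pow, decide_eq_true_eq]
  by_cases hk : k / 48 < 24
  · have h1 := horner_digit (B := 2 ^ 48) (f := fun j => 2 ^ (23 - ix (g⁻¹ (pt j)))) (n := 24) (k := 0)
      (fun i _ => hf _) hk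
    have h2 := congrArg (fun x => Nat.testBit x (k % 48)) h1
    simp only [← pow_mul, Nat.testBit_mod_two_pow, Nat.testBit_div_two_pow, Nat.testBit_two_pow, zero_add] at h2
    rw [show k % 48 + 48 * (k / 48) = k by omega, decide_eq_true (Nat.mod_lt k (by norm_num)),
      Bool.true_and] at h2
    rw [h2, decide_eq_true_eq]
    constructor
    · rintro ⟨i, hi, e⟩
      have := ap_code_lt g hi
      have h3 : k / 48 = ap (code g) i := by omega
      rw [h3, ← apply_pt g hi]
      simp only [Equiv.Perm.coe_inv, Equiv.symm_apply_apply, ix_pt hi]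
      omega
    · intro e
      refine ⟨ix (g⁻¹ (pt (k / 48))), ix_lt _, ?_⟩
      rw [ap_code_ix]
      simp only [Equiv.Perm.coe_inv, Equiv.apply_symm_apply, ix_pt hk] at e ⊢
      omega
  · rw [Nat.testBit_eq_false_of_lt]
    · simp only [Bool.false_eq_true, iff_false, not_exists, not_and]
      intro i hi e
      have := ap_code_lt g hi
      omega
    · refine lt_of_lt_of_le (horner_lt (fun i _ => hf _)) ?_
      exact (pow_mul 2 48 24).symm.trans_le (Nat.pow_le_pow_right (by norm_num) (by omega))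

theorem testBit_apM (g : Equiv.Perm GolayPt) {m : ℕ} (hm : m < 2 ^ 24) (j : ℕ) :
    (apM (code g) m).testBit j = true ↔ j < 24 ∧ m.testBit (ix (g⁻¹ (pt j))) = true := by
  have e2 : apM (code g) m = ((m * expM (code g) &&& horner (2 ^ 48) (fun _ => (2 ^ 1 - 1) * 2 ^ 23) 24 0) >>> 23) %
      (2 ^ (48 - 1) - 1) := by
    unfold apM
    exact gather_form _ _ _ _ _ _ _ (by decide +kernel) (by decide +kernel)
  rw [e2, expM_code, mul_horner, gather (L := 48) (s := 23) (w := 1) _ (by norm_num) (by norm_num), pow_one,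
    testBit_horner_two (fun i _ => Nat.mod_lt _ (by norm_num))]
  · have := ix_lt (g⁻¹ (pt j))
    rw [mul_pow_sub_div _ (by omega), Nat.testBit_eq_decide_div_mod_eq, decide_eq_true_eq]
  · intro i _
    calc m * 2 ^ (23 - ix (g⁻¹ (pt i))) < 2 ^ 24 * 2 ^ (23 - ix (g⁻¹ (pt i))) :=
          Nat.mul_lt_mul_of_pos_right hm (Nat.two_pow_pos _)
      _ ≤ 2 ^ 24 * 2 ^ 23 := Nat.mul_le_mul_left _ (Nat.pow_le_pow_right (by norm_num) (by omega))
      _ ≤ 2 ^ 48 := by norm_num

theorem apM_lt (g : Equiv.Perm GolayPt) {m : ℕ} (hm : m < 2 ^ 24) : apM (code g) m < 2 ^ 24 :=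
  lt_of_testBit fun j hj => ((testBit_apM g hm j).1 hj).1

theorem mem_smul_iff (g : Equiv.Perm GolayPt) (s : Finset GolayPt) (p : GolayPt) : p ∈ g • s ↔ g⁻¹ p ∈ s :=
  Finset.inv_smul_mem_iff.symm

theorem smul_fs (g : Equiv.Perm GolayPt) {m : ℕ} (hm : m < 2 ^ 24) : g • fs m = fs (apM (code g) m) := by
  ext p
  rw [mem_smul_iff, mem_fs, mem_fs, testBit_apM g hm, pt_ix]
  simp [ix_lt]

theorem smul_fs_eq_iff (g : Equiv.Perm GolayPt) {m m' : ℕ} (hm : m < 2 ^ 24) (hm' : m' < 2 ^ 24) :
    g • fs m = fs m' ↔ apM (code g) m = m' := by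
  rw [smul_fs g hm]
  exact ⟨fs_inj (apM_lt g hm) hm', fun h => by rw [h]⟩

/-- mask of the set of images -/
def imgM (c : ℕ) : ℕ := orl (fun i => Nat.pow 2 (ap c i)) 24

/-- `c` is the code of a permutation -/
def valid (c : ℕ) : Bool := Nat.blt c 0x1000000000000000000000000000000 && Nat.beq (imgM c) 16777215

theorem valid_bij {c : ℕ} (h : valid c = true) :
    (∀ i < 24, ap c i < 24) ∧ Function.Bijective fun p => pt (ap c (ix p)) := by
  rw [valid, Bool.and_eq_true, beq_iff] at h
  have h1 : ∀ j, j < 24 ↔ ∃ i < 24, ap c i = j := by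
    intro j
    have := testBit_orl (fun i => Nat.pow 2 (ap c i)) 24 j
    rw [← imgM, h.2, show (16777215 : ℕ) = 2 ^ 24 - 1 by norm_num, Nat.testBit_two_pow_sub_one] at this
    simpa [Nat.testBit_two_pow] using this
  refine ⟨fun i hi => (h1 _).2 ⟨i, hi, rfl⟩, ?_⟩
  apply Function.Surjective.bijective_of_finite
  intro q
  obtain ⟨i, hi, e⟩ := (h1 _).1 (ix_lt q)
  exact ⟨pt i, by simp only [ix_pt hi, e, pt_ix]⟩

/-- the permutation with a given code -/
noncomputable def perm (c : ℕ) : Equiv.Perm GolayPt :=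
  if h : valid c = true then Equiv.ofBijective _ (valid_bij h).2 else 1

theorem code_perm {c : ℕ} (h : valid c = true) : code (perm c) = c := by
  have hc : c < 32 ^ 24 := by
    rw [valid, Bool.and_eq_true, blt_iff] at h
    exact lt_of_lt_of_eq h.1 (by norm_num)
  apply eq_of_ap (code_lt _) hc
  intro i hi
  rw [ap_code _ hi, perm, dif_pos h, Equiv.ofBijective_apply, ix_pt hi, ix_pt ((valid_bij h).1 i hi)]

theorem valid_code (g : Equiv.Perm GolayPt) : valid (code g) = true := by
  rw [valid, Bool.and_eq_true, blt_iff, beq_iff]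
  refine ⟨lt_of_lt_of_eq (code_lt g) (by norm_num), ?_⟩
  apply Nat.eq_of_testBit_eq
  intro j
  rw [Bool.eq_iff_iff, imgM, testBit_orl, show (16777215 : ℕ) = 2 ^ 24 - 1 by norm_num,
    Nat.testBit_two_pow_sub_one]
  simp only [Nat.pow_eq, Nat.testBit_two_pow, decide_eq_true_eq]
  constructor
  · rintro ⟨i, hi, e⟩; rw [← e]; exact ap_code_lt g hi
  · intro hj
    exact ⟨ix (g⁻¹ (pt j)), ix_lt _, by rw [ap_code_ix]; simp [ix_pt hj]⟩

@[simp] theorem perm_code (g : Equiv.Perm GolayPt) : perm (code g) = g := code_inj (code_perm (valid_code g))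

theorem perm_mul {a b : ℕ} (ha : valid a = true) (hb : valid b = true) : perm (mul a b) = perm a * perm b := by
  rw [← perm_code (perm a * perm b), code_mul, code_perm ha, code_perm hb]

theorem valid_mul {a b : ℕ} (ha : valid a = true) (hb : valid b = true) : valid (mul a b) = true := by
  rw [← code_perm ha, ← code_perm hb, ← code_mul]; exact valid_code _

theorem valid_oneC : valid oneC = true := code_one ▸ valid_code 1
theorem perm_oneC : perm oneC = 1 := by rw [← code_one, perm_code]

theorem perm_pt {c : ℕ} (h : valid c = true) {i : ℕ} (hi : i < 24) : perm c (pt i) = pt (ap c i) := by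
  rw [apply_pt _ hi, code_perm h]

theorem eq_perm_of_code {g : Equiv.Perm GolayPt} {c : ℕ} (h : code g = c) : g = perm c := by
  rw [← h, perm_code]

theorem code_eq_one_iff {g : Equiv.Perm GolayPt} : code g = oneC ↔ g = 1 := by
  rw [← code_one]; exact code_injective.eq_iff

/-- power of a code -/
def powC (c n : ℕ) : ℕ := Nat.rec oneC (fun _ ih => mul ih c) n

theorem code_pow (g : Equiv.Perm GolayPt) (n : ℕ) : code (g ^ n) = powC (code g) n := by
  induction n with
  | zero => rw [pow_zero, code_one]; rfl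
  | succ n ih => rw [pow_succ, code_mul, ih]; rfl

/-- mask of the fixed points -/
def fixM (c : ℕ) : ℕ :=
    (Nat.lor (Nat.lor (Nat.lor (Nat.lor (Nat.lor (Nat.lor (Nat.lor (Nat.lor (Nat.lor (Nat.lor (Nat.lor
    (Nat.lor (Nat.lor (Nat.lor (Nat.lor (Nat.lor (Nat.lor (Nat.lor (Nat.lor (Nat.lor (Nat.lor (Nat.lor
    (Nat.lor (Nat.lor 0 (Nat.shiftLeft (Bool.rec 0 1 (Nat.beq (Nat.land (Nat.shiftRight c 0) 31) 0)) 0))
    (Nat.shiftLeft (Bool.rec 0 1 (Nat.beq (Nat.land (Nat.shiftRight c 5) 31) 1)) 1)) (Nat.shiftLeft (Bool.rec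
    0 1 (Nat.beq (Nat.land (Nat.shiftRight c 10) 31) 2)) 2)) (Nat.shiftLeft (Bool.rec 0 1 (Nat.beq (Nat.land
    (Nat.shiftRight c 15) 31) 3)) 3)) (Nat.shiftLeft (Bool.rec 0 1 (Nat.beq (Nat.land (Nat.shiftRight c 20)
    31) 4)) 4)) (Nat.shiftLeft (Bool.rec 0 1 (Nat.beq (Nat.land (Nat.shiftRight c 25) 31) 5)) 5))
    (Nat.shiftLeft (Bool.rec 0 1 (Nat.beq (Nat.land (Nat.shiftRight c 30) 31) 6)) 6)) (Nat.shiftLeft (Bool.rec
    0 1 (Nat.beq (Nat.land (Nat.shiftRight c 35) 31) 7)) 7)) (Nat.shiftLeft (Bool.rec 0 1 (Nat.beq (Nat.land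
    (Nat.shiftRight c 40) 31) 8)) 8)) (Nat.shiftLeft (Bool.rec 0 1 (Nat.beq (Nat.land (Nat.shiftRight c 45)
    31) 9)) 9)) (Nat.shiftLeft (Bool.rec 0 1 (Nat.beq (Nat.land (Nat.shiftRight c 50) 31) 10)) 10))
    (Nat.shiftLeft (Bool.rec 0 1 (Nat.beq (Nat.land (Nat.shiftRight c 55) 31) 11)) 11)) (Nat.shiftLeft
    (Bool.rec 0 1 (Nat.beq (Nat.land (Nat.shiftRight c 60) 31) 12)) 12)) (Nat.shiftLeft (Bool.rec 0 1 (Nat.beq
    (Nat.land (Nat.shiftRight c 65) 31) 13)) 13)) (Nat.shiftLeft (Bool.rec 0 1 (Nat.beq (Nat.land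
    (Nat.shiftRight c 70) 31) 14)) 14)) (Nat.shiftLeft (Bool.rec 0 1 (Nat.beq (Nat.land (Nat.shiftRight c 75)
    31) 15)) 15)) (Nat.shiftLeft (Bool.rec 0 1 (Nat.beq (Nat.land (Nat.shiftRight c 80) 31) 16)) 16))
    (Nat.shiftLeft (Bool.rec 0 1 (Nat.beq (Nat.land (Nat.shiftRight c 85) 31) 17)) 17)) (Nat.shiftLeft
    (Bool.rec 0 1 (Nat.beq (Nat.land (Nat.shiftRight c 90) 31) 18)) 18)) (Nat.shiftLeft (Bool.rec 0 1 (Nat.beq
    (Nat.land (Nat.shiftRight c 95) 31) 19)) 19)) (Nat.shiftLeft (Bool.rec 0 1 (Nat.beq (Nat.land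
    (Nat.shiftRight c 100) 31) 20)) 20)) (Nat.shiftLeft (Bool.rec 0 1 (Nat.beq (Nat.land (Nat.shiftRight c
    105) 31) 21)) 21)) (Nat.shiftLeft (Bool.rec 0 1 (Nat.beq (Nat.land (Nat.shiftRight c 110) 31) 22)) 22))
    (Nat.shiftLeft (Bool.rec 0 1 (Nat.beq (Nat.land (Nat.shiftRight c 115) 31) 23)) 23))

theorem fs_fixM (g : Equiv.Perm GolayPt) : fs (fixM (code g)) = Finset.univ.filter fun p => g p = p := by
  have e : fixM (code g) = orl (fun i => (Bool.rec 0 1 (Nat.beq (ap (code g) i) i) : ℕ) <<< i) 24 := rfl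
  ext p
  rw [mem_fs, e, testBit_orl]
  simp only [Finset.mem_filter, Finset.mem_univ, true_and]
  constructor
  · rintro ⟨i, hi, h⟩
    cases hb : Nat.beq (ap (code g) i) i
    · simp [hb] at h
    · simp only [hb, Nat.one_shiftLeft, Nat.testBit_two_pow, decide_eq_true_eq] at h
      rw [beq_iff, h, ap_code_ix] at hb
      exact ix_inj hb
  · intro h
    refine ⟨ix p, ix_lt p, ?_⟩
    have hb : Nat.beq (ap (code g) (ix p)) (ix p) = true := by rw [beq_iff, ap_code_ix, h]
    simp [hb, Nat.one_shiftLeft]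

theorem fixM_lt (c : ℕ) : fixM c < 2 ^ 24 := by
  have e : fixM c = orl (fun i => (Bool.rec 0 1 (Nat.beq (ap c i) i) : ℕ) <<< i) 24 := rfl
  apply lt_of_testBit
  intro j hj
  rw [e, testBit_orl] at hj
  obtain ⟨i, hi, h⟩ := hj
  cases hb : Nat.beq (ap c i) i
  · simp [hb] at h
  · simp only [hb, Nat.one_shiftLeft, Nat.testBit_two_pow, decide_eq_true_eq] at h
    omega

theorem card_fix (g : Equiv.Perm GolayPt) :
    (Finset.univ.filter fun p => g p = p).card = popc (fixM (code g)) := by
  rw [← fs_fixM, card_fs]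

/-- order test for a prime (or any) exponent: `c ≠ 1` and `c ^ n = 1` -/
def ordIs (c n : ℕ) : Bool := !(Nat.beq c oneC) && Nat.beq (powC c n) oneC

theorem ordIs_iff {g : Equiv.Perm GolayPt} {p : ℕ} (hp : p.Prime) : ordIs (code g) p = true ↔ orderOf g = p := by
  have := Fact.mk hp
  rw [ordIs, Bool.and_eq_true, Bool.not_eq_true', beq_false_iff, beq_iff, ← code_pow, code_eq_one_iff, Ne,
    code_eq_one_iff, orderOf_eq_prime_iff, and_comm]

/-- evaluate a word in two generators; the word is read from the low bit, the top bit is an end marker -/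
def word2 (a b : ℕ) (fuel : ℕ) : ℕ → ℕ → ℕ :=
  Nat.rec (fun _ acc => acc)
    (fun _ ih w acc => Bool.rec (force (mul acc (Bool.rec b a (Nat.beq (Nat.land w 1) 0)))
      fun x => force (Nat.shiftRight w 1) fun w' => ih w' x) acc (Nat.ble w 1)) fuel

theorem word2_mem {K : Subgroup (Equiv.Perm GolayPt)} {a b : Equiv.Perm GolayPt} (ha : a ∈ K) (hb : b ∈ K)
    (fuel w : ℕ) {g : Equiv.Perm GolayPt} (hg : g ∈ K) :
    ∃ h ∈ K, code h = word2 (code a) (code b) fuel w (code g) := by
  induction fuel generalizing w g with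
  | zero => exact ⟨g, hg, rfl⟩
  | succ n ih =>
    have e : word2 (code a) (code b) (n + 1) w (code g) = Bool.rec (word2 (code a) (code b) n (Nat.shiftRight w 1)
        (mul (code g) (Bool.rec (code b) (code a) (Nat.beq (Nat.land w 1) 0)))) (code g) (Nat.ble w 1) := by
      simp only [word2, force_eq]
    rw [e]
    cases Nat.ble w 1
    · cases Nat.beq (Nat.land w 1) 0
      · have := ih (Nat.shiftRight w 1) (K.mul_mem hg hb)
        rwa [code_mul] at this
      · have := ih (Nat.shiftRight w 1) (K.mul_mem hg ha)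
        rwa [code_mul] at this
    · exact ⟨g, hg, rfl⟩

attribute [irreducible] code mask mul apM expand expM fixM perm imgM horner orl popc pop12 valid oneC

end CA.Gol
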