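import Cfsg.Agent.Lib.Golay.Bits

/-!
Verified stabilizer chains and backtrack search for subgroups of `Equiv.Perm GolayPt`.
-/

set_option autoImplicit false

namespace CA.Gol
open Cfsg
open scoped Pointwise

/-- a level of a chain: a base point and a list of pairs (image, transversal code) -/
abbrev Lev : Type := ℕ × List (ℕ × ℕ)

/-- `g` fixes the points with the listed indices -/
def Fixes (g : Equiv.Perm GolayPt) (bs : List ℕ) : Prop := ∀ b ∈ bs, g (pt b) = pt b

theorem fixes_nil (g : Equiv.Perm GolayPt) : Fixes g [] := fun _ h => absurd h List.not_mem_nil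
theorem fixes_cons {g : Equiv.Perm GolayPt} {b : ℕ} {bs : List ℕ} :
    Fixes g (b :: bs) ↔ g (pt b) = pt b ∧ Fixes g bs := by simp [Fixes]
theorem Fixes.mul {g h : Equiv.Perm GolayPt} {bs : List ℕ} (hg : Fixes g bs) (hh : Fixes h bs) :
    Fixes (g * h) bs := fun b hb => by rw [Equiv.Perm.mul_apply, hh b hb, hg b hb]
theorem Fixes.inv {g : Equiv.Perm GolayPt} {bs : List ℕ} (hg : Fixes g bs) : Fixes g⁻¹ bs :=
  fun b hb => by rw [Equiv.Perm.inv_eq_iff_eq, hg b hb]

/-- pointwise stabilizer in `H` of the listed points -/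
def fixer (H : Subgroup (Equiv.Perm GolayPt)) (bs : List ℕ) : Subgroup (Equiv.Perm GolayPt) where
  carrier := {g | g ∈ H ∧ Fixes g bs}
  one_mem' := ⟨H.one_mem, fun _ _ => rfl⟩
  mul_mem' := fun ha hb => ⟨H.mul_mem ha.1 hb.1, ha.2.mul hb.2⟩
  inv_mem' := fun ha => ⟨H.inv_mem ha.1, ha.2.inv⟩

theorem mem_fixer {H : Subgroup (Equiv.Perm GolayPt)} {bs : List ℕ} {g : Equiv.Perm GolayPt} :
    g ∈ fixer H bs ↔ g ∈ H ∧ Fixes g bs := Iff.rfl

/-- the levels form a stabilizer chain for the pointwise stabilizer of `bs` in `H` -/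
def Chain (H : Subgroup (Equiv.Perm GolayPt)) : List ℕ → List Lev → Prop
  | bs, [] => ∀ g ∈ H, Fixes g bs → g = 1
  | bs, L :: Ls => L.1 < 24 ∧ (L.2.map Prod.fst).Nodup ∧
      (∀ g ∈ H, Fixes g bs → ap (code g) L.1 ∈ L.2.map Prod.fst) ∧
      (∀ e ∈ L.2, ∃ t ∈ H, Fixes t bs ∧ code t = e.2 ∧ ap e.2 L.1 = e.1) ∧ Chain H (L.1 :: bs) Ls

/-- the backtrack search (specification) -/
def search (ok : List ℕ → Bool) : List Lev → ℕ → List ℕ → List ℕ
  | [], h, _ => [h]
  | L :: Ls, h, im => L.2.flatMap fun e =>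
      if ok (ap h e.1 :: im) = true then search ok Ls (mul h e.2) (ap h e.1 :: im) else []

/-- the code `c` passes all pruning tests -/
def Pass (ok : List ℕ → Bool) : List Lev → ℕ → List ℕ → Prop
  | [], _, _ => True
  | L :: Ls, c, im => ok (ap c L.1 :: im) = true ∧ Pass ok Ls c (ap c L.1 :: im)

theorem ap_mul_code (g h : Equiv.Perm GolayPt) {i : ℕ} (hi : i < 24) :
    ap (code (g * h)) i = ap (code g) (ap (code h) i) := by
  rw [ap_code _ hi, ap_code h hi, ap_code_ix]; rfl

theorem apply_pt_eq_iff {g : Equiv.Perm GolayPt} {i j : ℕ} (hi : i < 24) (hj : j < 24) :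
    g (pt i) = pt j ↔ ap (code g) i = j := by
  rw [eq_pt_iff hj, ap_code g hi]

theorem mem_search {H : Subgroup (Equiv.Perm GolayPt)} (ok : List ℕ → Bool) {Ls : List Lev} {bs : List ℕ}
    (hC : Chain H bs Ls) (h : Equiv.Perm GolayPt) (im : List ℕ) (c : ℕ) :
    c ∈ search ok Ls (code h) im ↔ ∃ s ∈ H, Fixes s bs ∧ c = code (h * s) ∧ Pass ok Ls c im := by
  induction Ls generalizing bs h im with
  | nil =>
    simp only [search, List.mem_singleton, Pass, and_true]
    constructor
    · rintro rfl; exact ⟨1, H.one_mem, fun _ _ => rfl, by rw [mul_one]⟩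
    · rintro ⟨s, hs, hf, rfl⟩; rw [hC s hs hf, mul_one]
  | cons L Ls ih =>
    obtain ⟨hL, _, hup, hT, hC'⟩ := hC
    simp only [search, List.mem_flatMap, Pass]
    constructor
    · rintro ⟨e, he, hc⟩
      split_ifs at hc with hok
      · obtain ⟨t, ht, hft, hte, hta⟩ := hT e he
        rw [← hte, ← code_mul, ih hC'] at hc
        obtain ⟨s, hs, hfs, rfl, hp⟩ := hc
        rw [fixes_cons] at hfs
        have key : ap (code (h * t * s)) L.1 = ap (code h) e.1 := by
          rw [ap_mul_code _ _ hL, (apply_pt_eq_iff hL hL).1 hfs.1, ap_mul_code _ _ hL, hte, hta]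
        refine ⟨t * s, H.mul_mem ht hs, hft.mul hfs.2, by rw [mul_assoc], ?_⟩
        rw [key]; exact ⟨hok, hp⟩
      · simp at hc
    · rintro ⟨s, hs, hfs, rfl, hok, hp⟩
      obtain ⟨e, he, hx⟩ := List.mem_map.1 (hup s hs hfs)
      obtain ⟨t, ht, hft, hte, hta⟩ := hT e he
      have key : ap (code (h * s)) L.1 = ap (code h) e.1 := by rw [ap_mul_code _ _ hL, hx]
      refine ⟨e, he, ?_⟩
      rw [← key, if_pos hok, ← hte, ← code_mul, ih hC']
      refine ⟨t⁻¹ * s, H.mul_mem (H.inv_mem ht) hs, fixes_cons.2 ⟨?_, hft.inv.mul hfs⟩, by group, hp⟩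
      rw [Equiv.Perm.mul_apply, Equiv.Perm.inv_eq_iff_eq, apply_pt s hL, apply_pt t hL, hte, hta, hx]

theorem nodup_search {H : Subgroup (Equiv.Perm GolayPt)} (ok : List ℕ → Bool) {Ls : List Lev} {bs : List ℕ}
    (hC : Chain H bs Ls) (h : Equiv.Perm GolayPt) (im : List ℕ) : (search ok Ls (code h) im).Nodup := by
  induction Ls generalizing bs h im with
  | nil => simp [search]
  | cons L Ls ih =>
    obtain ⟨hL, hnd, _, hT, hC'⟩ := hC
    rw [search, List.nodup_flatMap]
    constructor
    · intro e he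
      obtain ⟨t, ht, hft, hte, hta⟩ := hT e he
      split_ifs
      · rw [← hte, ← code_mul]; exact ih hC' _ _
      · exact List.nodup_nil
    · have key : ∀ e ∈ L.2, ∀ c ∈ (if ok (ap (code h) e.1 :: im) = true then
          search ok Ls (mul (code h) e.2) (ap (code h) e.1 :: im) else []),
          e.1 < 24 ∧ ap c L.1 = ap (code h) e.1 := by
        intro e he c hc
        obtain ⟨t, ht, hft, hte, hta⟩ := hT e he
        split_ifs at hc
        · rw [← hte, ← code_mul, mem_search ok hC'] at hc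
          obtain ⟨s, hs, hfs, rfl, hp⟩ := hc
          rw [fixes_cons] at hfs
          refine ⟨by rw [← hta, ← hte]; exact ap_code_lt t hL, ?_⟩
          rw [ap_mul_code _ _ hL, (apply_pt_eq_iff hL hL).1 hfs.1, ap_mul_code _ _ hL, hte, hta]
        · simp at hc
      rw [List.Nodup, List.pairwise_map] at hnd
      refine List.Pairwise.imp_of_mem ?_ hnd
      intro e e' he he' hne c hc hc'
      obtain ⟨h1, h2⟩ := key e he c hc
      obtain ⟨h3, h4⟩ := key e' he' c hc'
      rw [h2, ap_code h h1, ap_code h h3] at h4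
      exact hne (pt_inj h1 h3 (h.injective (ix_inj h4)))

/-- conjunction over a list -/
def allL {α : Type} (l : List α) (f : α → Bool) : Bool :=
  List.rec true (fun a _ ih => Bool.rec false ih (f a)) l

theorem allL_eq {α : Type} (l : List α) (f : α → Bool) : allL l f = l.all f := by
  induction l with
  | nil => rfl
  | cons a l ih =>
    rw [List.all_cons, ← ih]
    show (Bool.rec false (allL l f) (f a) : Bool) = _
    cases f a <;> rfl

theorem allL_iff {α : Type} {l : List α} {f : α → Bool} : allL l f = true ↔ ∀ a ∈ l, f a = true := by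
  rw [allL_eq, List.all_eq_true]

/-- disjunction over a list -/
def anyL {α : Type} (l : List α) (f : α → Bool) : Bool :=
  List.rec false (fun a _ ih => Bool.rec ih true (f a)) l

theorem anyL_eq {α : Type} (l : List α) (f : α → Bool) : anyL l f = l.any f := by
  induction l with
  | nil => rfl
  | cons a l ih =>
    rw [List.any_cons, ← ih]
    show (Bool.rec (anyL l f) true (f a) : Bool) = _
    cases f a <;> rfl

theorem anyL_iff {α : Type} {l : List α} {f : α → Bool} : anyL l f = true ↔ ∃ a ∈ l, f a = true := by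
  rw [anyL_eq, List.any_eq_true]

/-- membership in a list of naturals -/
def memL (x : ℕ) (l : List ℕ) : Bool := anyL l (Nat.beq x)

theorem memL_iff {x : ℕ} {l : List ℕ} : memL x l = true ↔ x ∈ l := by
  rw [memL, anyL_iff]
  constructor
  · rintro ⟨a, ha, h⟩; rw [beq_iff.1 h]; exact ha
  · intro h; exact ⟨x, h, beq_iff.2 rfl⟩

/-- sum over a list -/
def sumL {α : Type} (l : List α) (f : α → ℕ) : ℕ := List.rec 0 (fun a _ ih => Nat.add (f a) ih) l

theorem sumL_eq {α : Type} (l : List α) (f : α → ℕ) : sumL l f = (l.map f).sum := by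
  induction l with
  | nil => rfl
  | cons a l ih => rw [List.map_cons, List.sum_cons, ← ih]; rfl

/-- all leaves of the search satisfy `leaf` -/
def searchAll (ok : List ℕ → Bool) (leaf : ℕ → Bool) (Ls : List Lev) : ℕ → List ℕ → Bool :=
  List.rec (fun h _ => leaf h)
    (fun L _ ih h im => allL L.2 fun e => force (ap h e.1) fun y =>
      Bool.rec true (force (mul h e.2) fun h' => ih h' (y :: im)) (ok (y :: im))) Ls

theorem searchAll_eq (ok : List ℕ → Bool) (leaf : ℕ → Bool) (Ls : List Lev) (h : ℕ) (im : List ℕ) :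
    searchAll ok leaf Ls h im = (search ok Ls h im).all leaf := by
  induction Ls generalizing h im with
  | nil => simp [search, searchAll]
  | cons L Ls ih =>
    have e : searchAll ok leaf (L :: Ls) h im = allL L.2 fun e => force (ap h e.1) fun y =>
      Bool.rec true (force (mul h e.2) fun h' => searchAll ok leaf Ls h' (y :: im)) (ok (y :: im)) := rfl
    rw [e, search, List.all_flatMap, allL_eq]
    congr 1
    funext e
    simp only [force_eq, ih]
    cases ok (ap h e.1 :: im) <;> simp

/-- number of leaves of the search satisfying `leaf` -/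
def searchCount (ok : List ℕ → Bool) (leaf : ℕ → Bool) (Ls : List Lev) : ℕ → List ℕ → ℕ :=
  List.rec (fun h _ => Bool.rec 0 1 (leaf h))
    (fun L _ ih h im => sumL L.2 fun e => force (ap h e.1) fun y =>
      Bool.rec 0 (force (mul h e.2) fun h' => ih h' (y :: im)) (ok (y :: im))) Ls

theorem searchCount_eq (ok : List ℕ → Bool) (leaf : ℕ → Bool) (Ls : List Lev) (h : ℕ) (im : List ℕ) :
    searchCount ok leaf Ls h im = (search ok Ls h im).countP leaf := by
  induction Ls generalizing h im with
  | nil =>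
    show (Bool.rec 0 1 (leaf h) : ℕ) = _
    cases hl : leaf h <;> simp [search, hl]
  | cons L Ls ih =>
    have e : searchCount ok leaf (L :: Ls) h im = sumL L.2 fun e => force (ap h e.1) fun y =>
      Bool.rec 0 (force (mul h e.2) fun h' => searchCount ok leaf Ls h' (y :: im)) (ok (y :: im)) := rfl
    rw [e, search, List.countP_flatMap, sumL_eq]
    congr 2
    funext e
    simp only [force_eq, ih, Function.comp]
    cases ok (ap h e.1 :: im) <;> simp

/-- main use of `searchAll` -/
theorem Chain.forall_of_searchAll {H : Subgroup (Equiv.Perm GolayPt)} {bs : List ℕ} {Ls : List Lev}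
    (hC : Chain H bs Ls) {ok : List ℕ → Bool} {leaf : ℕ → Bool} (h : searchAll ok leaf Ls oneC [] = true)
    {g : Equiv.Perm GolayPt} (hg : g ∈ H) (hf : Fixes g bs) (hp : Pass ok Ls (code g) []) :
    leaf (code g) = true := by
  rw [searchAll_eq, List.all_eq_true, ← code_one] at h
  exact h _ ((mem_search ok hC 1 [] _).2 ⟨g, hg, hf, by rw [one_mul], hp⟩)

/-- main use of `searchCount` -/
theorem Chain.card_eq_searchCount {H : Subgroup (Equiv.Perm GolayPt)} {bs : List ℕ} {Ls : List Lev}
    (hC : Chain H bs Ls) (ok : List ℕ → Bool) (leaf : ℕ → Bool) (S : Set (Equiv.Perm GolayPt))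
    (h1 : ∀ g ∈ S, g ∈ H ∧ Fixes g bs ∧ Pass ok Ls (code g) [] ∧ leaf (code g) = true)
    (h2 : ∀ g ∈ H, Fixes g bs → leaf (code g) = true → g ∈ S) :
    S.ncard = searchCount ok leaf Ls oneC [] := by
  rw [searchCount_eq, List.countP_eq_length_filter, ← code_one,
    ← List.toFinset_card_of_nodup ((nodup_search ok hC 1 []).filter _), ← Set.ncard_coe_finset,
    ← Set.ncard_image_of_injective S code_injective]
  congr 1
  ext c
  simp only [Set.mem_image, List.coe_toFinset, List.mem_filter, Set.mem_ofPred_eq, mem_search ok hC, one_mul]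
  constructor
  · rintro ⟨g, hg, rfl⟩
    obtain ⟨a, b, c, d⟩ := h1 g hg
    exact ⟨⟨g, a, b, rfl, c⟩, d⟩
  · rintro ⟨⟨g, a, b, rfl, _⟩, d⟩
    exact ⟨g, h2 g a b d, rfl⟩

theorem pass_true (Ls : List Lev) (c : ℕ) (im : List ℕ) : Pass (fun _ => true) Ls c im := by
  induction Ls generalizing im with
  | nil => trivial
  | cons L Ls ih => exact ⟨rfl, ih _⟩

theorem length_search_true (Ls : List Lev) (h : ℕ) (im : List ℕ) :
    (search (fun _ => true) Ls h im).length = (Ls.map fun L => L.2.length).prod := by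
  induction Ls generalizing h im with
  | nil => rfl
  | cons L Ls ih =>
    simp only [search, if_true, List.length_flatMap, ih, List.map_cons, List.prod_cons]
    simp

/-- the order of a group with a chain -/
theorem Chain.card {H : Subgroup (Equiv.Perm GolayPt)} {bs : List ℕ} {Ls : List Lev} (hC : Chain H bs Ls) :
    Nat.card (fixer H bs) = (Ls.map fun L => L.2.length).prod := by
  have := hC.card_eq_searchCount (fun _ => true) (fun _ => true) (fixer H bs : Set _)
    (fun g hg => ⟨hg.1, hg.2, pass_true _ _ _, rfl⟩) (fun g a b _ => mem_fixer.2 ⟨a, b⟩)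
  rw [searchCount_eq, List.countP_true, length_search_true] at this
  rw [← this]; rfl

theorem fixer_nil (H : Subgroup (Equiv.Perm GolayPt)) : fixer H [] = H := by
  ext g; simp [mem_fixer, fixes_nil]

/-- a subgroup containing all transversal elements contains the group -/
theorem Chain.le_of_transversals {H K : Subgroup (Equiv.Perm GolayPt)} {bs : List ℕ} {Ls : List Lev}
    (hC : Chain H bs Ls) (hK : ∀ L ∈ Ls, ∀ e ∈ L.2, ∃ k ∈ K, code k = e.2) : fixer H bs ≤ K := by
  induction Ls generalizing bs with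
  | nil => intro g hg; rw [hC g hg.1 hg.2]; exact K.one_mem
  | cons L Ls ih =>
    obtain ⟨hL, _, hup, hT, hC'⟩ := hC
    intro s hs
    obtain ⟨e, he, hx⟩ := List.mem_map.1 (hup s hs.1 hs.2)
    obtain ⟨t, ht, hft, hte, hta⟩ := hT e he
    obtain ⟨k, hk, hke⟩ := hK L List.mem_cons_self e he
    have : k = t := code_inj (hke.trans hte.symm)
    subst this
    have h2 : k⁻¹ * s ∈ K := by
      apply ih hC' fun L' hL' => hK L' (List.mem_cons_of_mem _ hL')
      refine ⟨H.mul_mem (H.inv_mem ht) hs.1, fixes_cons.2 ⟨?_, hft.inv.mul hs.2⟩⟩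
      rw [Equiv.Perm.mul_apply, Equiv.Perm.inv_eq_iff_eq, apply_pt s hL, apply_pt k hL, hte, hta, hx]
    simpa using K.mul_mem hk h2

/-- checkable part of one level: `M` is the mask of an invariant set containing the base point -/
def levOK (memb : ℕ → Bool) (bs : List ℕ) (L : Lev) (M : ℕ) : Bool :=
  Nat.blt L.1 24 && tb M L.1 && !(memL L.1 bs) && allL bs (fun b => Nat.blt b 24) &&
  decide (L.2.map Prod.fst).Nodup &&
  allLt (fun x => !(tb M x) || memL x bs || memL x (L.2.map Prod.fst)) 24 &&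
  allL L.2 fun e => memb e.2 && Nat.beq (ap e.2 L.1) e.1 && allL bs fun b => Nat.beq (ap e.2 b) b

theorem chain_cons {H : Subgroup (Equiv.Perm GolayPt)} {memb : ℕ → Bool}
    (hm : ∀ c, memb c = true → ∃ t ∈ H, code t = c) {bs : List ℕ} {L : Lev} {Ls : List Lev} (M : ℕ)
    (hok : levOK memb bs L M = true) (hinv : ∀ g ∈ H, Fixes g bs → g • fs M = fs M)
    (hC : Chain H (L.1 :: bs) Ls) : Chain H bs (L :: Ls) := by
  simp only [levOK, Bool.and_eq_true, blt_iff, allL_iff, allLt_iff, beq_iff, Bool.or_eq_true, memL_iff,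
    Bool.not_eq_true', decide_eq_true_eq] at hok
  obtain ⟨⟨⟨⟨⟨⟨h1, h2⟩, h3⟩, h4⟩, h5⟩, h6⟩, h7⟩ := hok
  refine ⟨h1, h5, ?_, ?_, hC⟩
  · intro g hg hf
    have hx := ap_code_lt g h1
    rcases h6 _ hx with (h | h) | h
    · exfalso
      have : g (pt L.1) ∈ g • fs M := Finset.smul_mem_smul_finset ((pt_mem_fs h1).2 h2)
      rw [hinv g hg hf, apply_pt g h1, pt_mem_fs hx, h] at this
      exact Bool.noConfusion this
    · exfalso
      have h8 := hf _ h
      rw [← apply_pt g h1] at h8
      have h9 := g.injective h8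
      rw [apply_pt g h1, ← eq_comm] at h9
      rw [← pt_inj h1 hx h9, ← memL_iff, h3] at h
      exact Bool.noConfusion h
    · exact h
  · intro e he
    obtain ⟨⟨a, b⟩, c⟩ := h7 e he
    obtain ⟨t, ht, hte⟩ := hm _ a
    refine ⟨t, ht, fun x hx => ?_, hte, b⟩
    rw [apply_pt_eq_iff (h4 x hx) (h4 x hx), hte]; exact c x hx

theorem smul_fs_full (g : Equiv.Perm GolayPt) : g • fs 16777215 = fs 16777215 := by
  rw [fs_full]; ext p; simp

/-- transitivity read off a chain level -/
theorem Chain.exists_map {H : Subgroup (Equiv.Perm GolayPt)} {bs : List ℕ} {L : Lev} {Ls : List Lev}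
    (hC : Chain H bs (L :: Ls)) {x : ℕ} (hx : x ∈ L.2.map Prod.fst) :
    ∃ t ∈ H, Fixes t bs ∧ t (pt L.1) = pt x := by
  obtain ⟨e, he, rfl⟩ := List.mem_map.1 hx
  obtain ⟨t, ht, hf, hte, hta⟩ := hC.2.2.2.1 e he
  exact ⟨t, ht, hf, by rw [apply_pt t hC.1, hte, hta]⟩

theorem Chain.tail {H : Subgroup (Equiv.Perm GolayPt)} {bs : List ℕ} {L : Lev} {Ls : List Lev}
    (hC : Chain H bs (L :: Ls)) : Chain H (L.1 :: bs) Ls := hC.2.2.2.2

/-- a point separated from all others by invariant sets is fixed -/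
theorem fix_of_separated {g : Equiv.Perm GolayPt} {l : List ℕ} (hl : ∀ m ∈ l, g • fs m = fs m) {i : ℕ}
    (hi : i < 24) (hs : allLt (fun j => Nat.beq j i || anyL l fun m => xor (tb m i) (tb m j)) 24 = true) :
    g (pt i) = pt i := by
  have hx := ap_code_lt g hi
  have := allLt_iff.1 hs _ hx
  rw [Bool.or_eq_true, beq_iff, anyL_iff] at this
  rcases this with h | ⟨m, hm, h⟩
  · rw [apply_pt g hi, h]
  · exfalso
    have h1 : g (pt i) ∈ g • fs m ↔ pt i ∈ fs m := by rw [mem_smul_iff]; simp
    rw [hl m hm, apply_pt g hi, pt_mem_fs hx, pt_mem_fs hi] at h1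
    revert h h1
    cases tb m i <;> cases tb m (ap (code g) i) <;> simp

end CA.Gol
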