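import Cfsg.Agent.Lib.Golay.Bits

/-!
The binary Golay code of the definitions: membership test, weights, self-duality, membership test for `M24`.
-/

set_option autoImplicit false

namespace CA.Gol
open Cfsg
open scoped Pointwise

/-- indicator word of a finset -/
def ind (s : Finset GolayPt) : GolayPt → ZMod 2 := fun p => if p ∈ s then 1 else 0

theorem zmod2_cases (x : ZMod 2) : x = 0 ∨ x = 1 := by revert x; decide

@[simp] theorem support_ind (s : Finset GolayPt) : support₂ (ind s) = s := by
  ext p; simp [support₂, ind]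

theorem mem_support {w : GolayPt → ZMod 2} {p : GolayPt} : p ∈ support₂ w ↔ w p = 1 := by
  simp only [support₂, Finset.mem_filter, Finset.mem_univ, true_and]
  rcases zmod2_cases (w p) with h | h <;> simp [h]

@[simp] theorem ind_support (w : GolayPt → ZMod 2) : ind (support₂ w) = w := by
  funext p
  rw [ind]
  rcases zmod2_cases (w p) with h | h <;> simp [mem_support, h]

theorem ind_inj {s t : Finset GolayPt} (h : ind s = ind t) : s = t := by
  rw [← support_ind s, h, support_ind]

theorem ind_symmDiff (s t : Finset GolayPt) : ind (symmDiff s t) = ind s + ind t := by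
  funext p
  simp only [ind, Finset.mem_symmDiff, Pi.add_apply]
  by_cases h1 : p ∈ s <;> by_cases h2 : p ∈ t <;> simp [h1, h2]
  decide

theorem ind_empty : ind ∅ = 0 := by funext p; simp [ind]
theorem ind_univ : ind Finset.univ = fun _ => 1 := by funext p; simp [ind]

theorem ind_smul (g : Equiv.Perm GolayPt) (s : Finset GolayPt) : ind (g • s) = fun p => ind s (g.symm p) := by
  funext p
  simp only [ind, mem_smul_iff]; rfl

theorem sum_ind (s : Finset GolayPt) : ∑ p, ind s p = (s.card : ZMod 2) := by
  simp [ind]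

/-- the code words as finsets -/
abbrev CW : Set (Finset GolayPt) := supports (golayCode : Set (GolayPt → ZMod 2))

theorem mem_CW {s : Finset GolayPt} : s ∈ CW ↔ ind s ∈ golayCode := by
  constructor
  · rintro ⟨w, hw, rfl⟩; rwa [ind_support]
  · intro h; exact ⟨_, h, support_ind s⟩

theorem support_mem_CW {w : GolayPt → ZMod 2} : support₂ w ∈ CW ↔ w ∈ golayCode := by
  rw [mem_CW, ind_support]

theorem symmDiff_mem_CW {s t : Finset GolayPt} (hs : s ∈ CW) (ht : t ∈ CW) : symmDiff s t ∈ CW := by
  rw [mem_CW] at *; rw [ind_symmDiff]; exact add_mem hs ht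

theorem empty_mem_CW : (∅ : Finset GolayPt) ∈ CW := by rw [mem_CW, ind_empty]; exact zero_mem _

theorem one_mem_golay : (fun _ => (1 : ZMod 2)) ∈ golayCode := Submodule.subset_span (Or.inr rfl)

theorem univ_mem_CW : (Finset.univ : Finset GolayPt) ∈ CW := by rw [mem_CW, ind_univ]; exact one_mem_golay

theorem compl_eq_symmDiff (s : Finset GolayPt) : Finset.univ \ s = symmDiff s Finset.univ := by
  ext p; simp [Finset.mem_symmDiff]

theorem compl_mem_CW {s : Finset GolayPt} (hs : s ∈ CW) : Finset.univ \ s ∈ CW := by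
  rw [compl_eq_symmDiff]; exact symmDiff_mem_CW hs univ_mem_CW

theorem mem_octads {s : Finset GolayPt} : s ∈ octads ↔ s ∈ CW ∧ s.card = 8 := Iff.rfl
theorem mem_dodecads {s : Finset GolayPt} : s ∈ dodecads ↔ s ∈ CW ∧ s.card = 12 := Iff.rfl

/-- xor of the entries of the table `T` selected by the bits of `i` -/
def xorSel (T i : ℕ) : ℕ → ℕ
  | 0 => 0
  | k + 1 => Nat.xor (xorSel T i k) (Bool.rec 0 (fld 24 T k) (tb i k))

theorem xorSel_lt (T i k : ℕ) : xorSel T i k < 2 ^ 24 := by
  induction k with
  | zero => simp [xorSel]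
  | succ k ih =>
    apply xor_lt ih
    cases tb i k
    · norm_num
    · exact fld_lt _ _ _

theorem xorSel_xor (T i j k : ℕ) : xorSel T (i ^^^ j) k = xorSel T i k ^^^ xorSel T j k := by
  induction k with
  | zero => simp [xorSel]
  | succ k ih =>
    have e : ∀ i, xorSel T i (k + 1) = xorSel T i k ^^^ (Bool.rec 0 (fld 24 T k) (tb i k)) := fun _ => rfl
    rw [e, e, e, ih, tb_eq, tb_eq, tb_eq, Nat.testBit_xor]
    cases i.testBit k <;> cases j.testBit k
    · simp
    · simp [Nat.xor_assoc]
    · simp only [Bool.bne_false, Nat.xor_zero]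
      rw [Nat.xor_assoc, Nat.xor_assoc, Nat.xor_comm (xorSel T j k)]
    · simp only [bne_self_eq_false, Nat.xor_zero]
      rw [Nat.xor_assoc, Nat.xor_comm (fld 24 T k), Nat.xor_assoc, Nat.xor_self, Nat.xor_zero]

theorem xorSel_induction {P : Finset GolayPt → Prop} (h0 : P ∅) (hs : ∀ s t, P s → P t → P (symmDiff s t))
    (T i k : ℕ) (hT : ∀ j < k, P (fs (fld 24 T j))) : P (fs (xorSel T i k)) := by
  induction k with
  | zero => show P (fs 0); rw [fs_zero]; exact h0
  | succ k ih =>
    show P (fs (Nat.xor _ _))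
    rw [fs_xor]
    apply hs _ _ (ih fun j hj => hT j (by omega))
    cases tb i k
    · show P (fs 0); rw [fs_zero]; exact h0
    · exact hT k (by omega)

/-- systematic basis of the code -/
def basT : ℕ := 0xe3a800b1d4007b42003da1001ed080ecc040b660209b30106e3008d4b00449f002c75001
/-- the defining generators of the code -/
def genT : ℕ := 0xffffff4299af614cd770a66b7853357c299a3e14cd5f0a662f853357c2996be14c35f0a61af8534d7c2966be14335f0a19af854cd7c2266be15335f0299af814cd7c0a66be05335f
/-- the basis in terms of the generators -/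
def combT : ℕ := 0x8006258006630000650005430007d08005cd8007978006ba0005788004990001188006a9
/-- encoding table, low six bits -/
def encT1 : ℕ := 0x19703fde203e50803d97d03ccdc03b0a903a843039436038774037b010363eb035f9e034a3f03364a032ea00312d503082402f45102ecbb02d0ce02c56f02b91a02a1f0029d85028ec70272b2026a5802562d02438c023ff9022713021b66020af101f68401ee6e01d21b01c7ba01bbcf01a325019f50018c1201706701688d0154f8014159013d2c0125c60119b301034200ff3700e7dd00dba800ce0900b27c00aa960096e30085a10079d400613e005d4b0048ea00349f002c75001000000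
/-- encoding table, high six bits -/
def encT2 : ℕ := 0xe68fc00a4f80f85f40149f00db2ec037ee80c5fe40293e009dcdc0710d80831d406fdd00a06cc04cac80bebc40527c00575bc0bb9b80498b40a54b006afac0863a80742a4098ea002c19c0c0d98032c940de090011b8c0fd78800f6840e3a8000527c0e9e7801bf740f737003886c0d44680265640ca96007e65c092a58060b5408c750043c4c0af04805d1440b1d400b4f3c0583380aa234046e3008952c06592809782407b4200cfb1c0237180d161403da100f210c01ed080ecc040000000

/-- the code word with information bits `i` -/
def enc (i : ℕ) : ℕ :=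
  Nat.xor (Nat.land (Nat.shiftRight encT1 (Nat.mul 24 (Nat.land i 63))) 16777215)
    (Nat.land (Nat.shiftRight encT2 (Nat.mul 24 (Nat.shiftRight i 6))) 16777215)

/-- membership test for the code -/
def isCode (m : ℕ) : Bool := Nat.beq (enc (Nat.land m 4095)) m

theorem enc_check : allLt (fun i => Nat.beq (enc i) (xorSel basT i 12) && Nat.beq (Nat.land (enc i) 4095) i) 4096
    = true := by decide +kernel

theorem enc_eq {i : ℕ} (hi : i < 4096) : enc i = xorSel basT i 12 := by
  have := allLt_iff.1 enc_check i hi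
  rw [Bool.and_eq_true, beq_iff] at this
  exact this.1

theorem enc_land {i : ℕ} (hi : i < 4096) : Nat.land (enc i) 4095 = i := by
  have := allLt_iff.1 enc_check i hi
  rw [Bool.and_eq_true, beq_iff, beq_iff] at this
  exact this.2

theorem enc_lt {i : ℕ} (hi : i < 4096) : enc i < 2 ^ 24 := by rw [enc_eq hi]; exact xorSel_lt _ _ _

theorem land4095_lt (m : ℕ) : Nat.land m 4095 < 4096 := lt_of_le_of_lt Nat.and_le_right (by norm_num)

theorem isCode_lt {m : ℕ} (h : isCode m = true) : m < 2 ^ 24 := by
  rw [isCode, beq_iff] at h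
  rw [← h]; exact enc_lt (land4095_lt m)

theorem isCode_enc {i : ℕ} (hi : i < 4096) : isCode (enc i) = true := by
  rw [isCode, beq_iff, enc_land hi]

theorem qrWord_eq (t : ZMod 23) : qrWord t = ind (fs (fld 24 genT t.val)) := by
  have : ∀ (t : ZMod 23) (p : GolayPt), qrWord t p = if tb (fld 24 genT t.val) (ix p) = true then 1 else 0 := by
    decide +kernel
  funext p
  rw [this, ind, tb_eq]; simp

theorem gen_mem_CW {j : ℕ} (hj : j < 24) : fs (fld 24 genT j) ∈ CW := by
  by_cases h : j = 23
  · have : fld 24 genT 23 = 16777215 := by decide +kernel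
    rw [h, this, fs_full]; exact univ_mem_CW
  · rw [mem_CW]
    have := qrWord_eq (j : ZMod 23)
    rw [ZMod.val_cast_of_lt (by omega)] at this
    rw [← this]
    exact Submodule.subset_span (Or.inl ⟨_, rfl⟩)

theorem bas_mem_CW {j : ℕ} (hj : j < 12) : fs (fld 24 basT j) ∈ CW := by
  have h : allLt (fun j => Nat.beq (fld 24 basT j) (xorSel genT (fld 24 combT j) 24)) 12 = true := by
    decide +kernel
  rw [beq_iff.1 (allLt_iff.1 h j hj)]
  exact xorSel_induction (P := fun s => s ∈ CW) empty_mem_CW (fun _ _ => symmDiff_mem_CW) _ _ _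
    fun j hj => gen_mem_CW hj

theorem enc_mem_CW {i : ℕ} (hi : i < 4096) : fs (enc i) ∈ CW := by
  rw [enc_eq hi]
  exact xorSel_induction (P := fun s => s ∈ CW) empty_mem_CW (fun _ _ => symmDiff_mem_CW) _ _ _
    fun j hj => bas_mem_CW hj

theorem mask_symmDiff (s t : Finset GolayPt) : mask (symmDiff s t) = Nat.xor (mask s) (mask t) :=
  fs_inj (mask_lt _) (xor_lt (mask_lt _) (mask_lt _)) (by rw [fs_xor, fs_mask, fs_mask, fs_mask])

theorem isCode_xor {a b : ℕ} (ha : isCode a = true) (hb : isCode b = true) : isCode (Nat.xor a b) = true := by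
  rw [isCode, beq_iff, enc_eq (land4095_lt _)] at *
  have : Nat.land (Nat.xor a b) 4095 = Nat.land a 4095 ^^^ Nat.land b 4095 := Nat.and_xor_distrib_right
  rw [this, xorSel_xor, ha, hb]; rfl

theorem isCode_mask {s : Finset GolayPt} (hs : s ∈ CW) : isCode (mask s) = true := by
  have key : ∀ w ∈ golayCode, isCode (mask (support₂ w)) = true := by
    intro w hw
    induction hw using Submodule.span_induction with
    | mem w hw =>
      have hg : allLt (fun j => isCode (fld 24 genT j)) 24 = true := by decide +kernel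
      rcases hw with ⟨t, rfl⟩ | rfl
      · rw [qrWord_eq, support_ind, mask_fs (fld_lt _ _ _)]
        exact allLt_iff.1 hg _ (lt_trans t.val_lt (by norm_num))
      · have : (1 : GolayPt → ZMod 2) = ind (fs 16777215) := by rw [fs_full, ind_univ]; rfl
        rw [this, support_ind, mask_fs (by norm_num)]
        decide +kernel
    | zero =>
      rw [← ind_empty, support_ind, ← fs_zero, mask_fs (by norm_num)]
      decide +kernel
    | add x y _ _ hx hy =>
      rw [← ind_support x, ← ind_support y, ← ind_symmDiff, support_ind, mask_symmDiff]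
      exact isCode_xor hx hy
    | smul a x _ hx =>
      rcases zmod2_cases a with rfl | rfl
      · rw [zero_smul, ← ind_empty, support_ind, ← fs_zero, mask_fs (by norm_num)]
        decide +kernel
      · rwa [one_smul]
  have := key _ (mem_CW.1 hs)
  rwa [support_ind] at this

theorem fs_mem_CW {m : ℕ} (h : isCode m = true) : fs m ∈ CW := by
  rw [isCode, beq_iff] at h
  rw [← h]; exact enc_mem_CW (land4095_lt m)

theorem fs_mem_CW_iff {m : ℕ} (hm : m < 2 ^ 24) : fs m ∈ CW ↔ isCode m = true :=
  ⟨fun h => by have := isCode_mask h; rwa [mask_fs hm] at this, fs_mem_CW⟩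

theorem exists_enc {s : Finset GolayPt} (hs : s ∈ CW) : ∃ i < 4096, s = fs (enc i) := by
  have := isCode_mask hs
  rw [isCode, beq_iff] at this
  exact ⟨_, land4095_lt (mask s), by rw [this, fs_mask]⟩

theorem CW_induction {P : Finset GolayPt → Prop} (h0 : P ∅) (hs : ∀ s t, P s → P t → P (symmDiff s t))
    (hT : ∀ j < 12, P (fs (fld 24 basT j))) {s : Finset GolayPt} (h : s ∈ CW) : P s := by
  obtain ⟨i, hi, rfl⟩ := exists_enc h
  rw [enc_eq hi]
  exact xorSel_induction h0 hs _ _ _ hT

/-- octad test -/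
def isOct (m : ℕ) : Bool := isCode m && Nat.beq (popc m) 8

theorem fs_mem_octads {m : ℕ} (h : isOct m = true) : fs m ∈ octads := by
  rw [isOct, Bool.and_eq_true, beq_iff] at h
  exact ⟨fs_mem_CW h.1, by rw [card_fs, h.2]⟩

theorem fs_mem_octads_iff {m : ℕ} (hm : m < 2 ^ 24) : fs m ∈ octads ↔ isOct m = true := by
  rw [isOct, Bool.and_eq_true, beq_iff, mem_octads, fs_mem_CW_iff hm, card_fs]

/-- dodecad test -/
def isDod (m : ℕ) : Bool := isCode m && Nat.beq (popc m) 12

theorem fs_mem_dodecads {m : ℕ} (h : isDod m = true) : fs m ∈ dodecads := by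
  rw [isDod, Bool.and_eq_true, beq_iff] at h
  exact ⟨fs_mem_CW h.1, by rw [card_fs, h.2]⟩

theorem fs_mem_dodecads_iff {m : ℕ} (hm : m < 2 ^ 24) : fs m ∈ dodecads ↔ isDod m = true := by
  rw [isDod, Bool.and_eq_true, beq_iff, mem_dodecads, fs_mem_CW_iff hm, card_fs]

theorem weight_check : allLt (fun i => tb 0x1011101 (popc (enc i))) 4096 = true := by decide +kernel

theorem card_CW {s : Finset GolayPt} (hs : s ∈ CW) :
    s.card = 0 ∨ s.card = 8 ∨ s.card = 12 ∨ s.card = 16 ∨ s.card = 24 := by
  obtain ⟨i, hi, rfl⟩ := exists_enc hs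
  have h := allLt_iff.1 weight_check i hi
  rw [← card_fs] at h
  have h24 : (fs (enc i)).card ≤ 24 := card_golayPt ▸ Finset.card_le_univ _
  generalize (fs (enc i)).card = n at h h24
  interval_cases n <;> first | (exfalso; revert h; decide) | simp

theorem card_symmDiff_add (s t : Finset GolayPt) :
    (symmDiff s t).card + 2 * (s ∩ t).card = s.card + t.card := by
  have h1 : symmDiff s t = (s \ t) ∪ (t \ s) := rfl
  rw [h1, Finset.card_union_of_disjoint disjoint_sdiff_sdiff]
  have h2 := Finset.card_sdiff_add_card_inter s t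
  have h3 := Finset.card_sdiff_add_card_inter t s
  rw [Finset.inter_comm t s] at h3
  omega

theorem even_card_inter {s t : Finset GolayPt} (hs : s ∈ CW) (ht : t ∈ CW) : Even (s ∩ t).card := by
  have h1 := card_symmDiff_add s t
  have h2 := card_CW hs
  have h3 := card_CW ht
  have h4 := card_CW (symmDiff_mem_CW hs ht)
  rw [Nat.even_iff]; omega

theorem eq_of_symmDiff_small {s t : Finset GolayPt} (h : symmDiff s t ∈ CW) (h' : (symmDiff s t).card < 8) :
    s = t := by
  have := card_CW h
  rw [← symmDiff_eq_bot, Finset.bot_eq_empty, ← Finset.card_eq_zero]; omega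

theorem octad_eq {o o' : Finset GolayPt} (ho : o ∈ octads) (ho' : o' ∈ octads) (h : 5 ≤ (o ∩ o').card) :
    o = o' := by
  have h1 := card_symmDiff_add o o'
  apply eq_of_symmDiff_small (symmDiff_mem_CW ho.1 ho'.1)
  rw [ho.2, ho'.2] at h1; omega

theorem card_inter_octads {o o' : Finset GolayPt} (ho : o ∈ octads) (ho' : o' ∈ octads) (h : o ≠ o') :
    (o ∩ o').card = 0 ∨ (o ∩ o').card = 2 ∨ (o ∩ o').card = 4 := by
  have h1 := even_card_inter ho.1 ho'.1
  have h2 : ¬ 5 ≤ (o ∩ o').card := fun h5 => h (octad_eq ho ho' h5)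
  rw [Nat.even_iff] at h1; omega

theorem dual_check : allLt (fun j => Nat.beq j 0 ||
    anyLt (fun k => tb (popc (Nat.land (Nat.mul j 4096) (fld 24 basT k))) 0) 12) 4096 = true := by decide +kernel

theorem card_symmDiff_inter (s t c : Finset GolayPt) :
    (symmDiff s t ∩ c).card + 2 * (s ∩ t ∩ c).card = (s ∩ c).card + (t ∩ c).card := by
  have := card_symmDiff_add (s ∩ c) (t ∩ c)
  rw [show s ∩ c ∩ (t ∩ c) = s ∩ t ∩ c by ext; simp only [Finset.mem_inter]; tauto,
    show symmDiff (s ∩ c) (t ∩ c) = symmDiff s t ∩ c by ext; simp [Finset.mem_symmDiff]; tauto] at this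
  exact this

/-- the code is self-dual -/
theorem mem_CW_of_even {s : Finset GolayPt} (h : ∀ c ∈ CW, Even (s ∩ c).card) : s ∈ CW := by
  have hi := land4095_lt (mask s)
  set e := enc (Nat.land (mask s) 4095) with he
  have h1 : Nat.land (Nat.xor (mask s) e) 4095 = 0 := by
    have : Nat.land (Nat.xor (mask s) e) 4095 = Nat.land (mask s) 4095 ^^^ Nat.land e 4095 :=
      Nat.and_xor_distrib_right
    rw [this, he, enc_land hi, Nat.xor_self]
  have h2 : Nat.xor (mask s) e < 2 ^ 24 := xor_lt (mask_lt s) (enc_lt hi)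
  have h3 : Nat.xor (mask s) e % 4096 = 0 := by
    rw [← h1]; exact (Nat.and_two_pow_sub_one_eq_mod _ 12).symm
  have h4 := allLt_iff.1 dual_check (Nat.xor (mask s) e / 4096) (by omega)
  have h5 : Nat.mul (Nat.xor (mask s) e / 4096) 4096 = Nat.xor (mask s) e := by
    show _ * 4096 = _; omega
  rw [Bool.or_eq_true, beq_iff, anyLt_iff, h5] at h4
  rcases h4 with h4 | ⟨k, hk, h4⟩
  · have h6 : Nat.xor (mask s) e = 0 := by omega
    have h7 : mask s = e := Nat.xor_eq_zero_iff.1 h6
    rw [← fs_mask s, h7]; exact enc_mem_CW hi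
  · exfalso
    rw [← card_fs, fs_land, fs_xor, fs_mask, tb_eq, Nat.testBit_zero, decide_eq_true_eq] at h4
    have h6 := card_symmDiff_inter s (fs e) (fs (fld 24 basT k))
    have h7 := h _ (bas_mem_CW hk)
    have h8 := even_card_inter (enc_mem_CW hi) (bas_mem_CW hk)
    rw [← he] at h8
    rw [Nat.even_iff] at h7 h8
    omega

/-! ### Membership in `M24` -/

theorem smul_symmDiff (g : Equiv.Perm GolayPt) (s t : Finset GolayPt) :
    g • symmDiff s t = symmDiff (g • s) (g • t) := by
  ext p; simp only [mem_smul_iff, Finset.mem_symmDiff]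

theorem smul_inter (g : Equiv.Perm GolayPt) (s t : Finset GolayPt) : g • (s ∩ t) = g • s ∩ g • t := by
  ext p; simp only [mem_smul_iff, Finset.mem_inter]

theorem smul_union (g : Equiv.Perm GolayPt) (s t : Finset GolayPt) : g • (s ∪ t) = g • s ∪ g • t := by
  ext p; simp only [mem_smul_iff, Finset.mem_union]

theorem smul_sdiff (g : Equiv.Perm GolayPt) (s t : Finset GolayPt) : g • (s \ t) = g • s \ g • t := by
  ext p; simp only [mem_smul_iff, Finset.mem_sdiff]

theorem smul_univ (g : Equiv.Perm GolayPt) : g • (Finset.univ : Finset GolayPt) = Finset.univ := by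
  ext p; simp only [mem_smul_iff, Finset.mem_univ]

theorem card_smul (g : Equiv.Perm GolayPt) (s : Finset GolayPt) : (g • s).card = s.card :=
  Finset.card_smul_finset g s

theorem apply_mem_smul {g : Equiv.Perm GolayPt} {s : Finset GolayPt} {p : GolayPt} : g p ∈ g • s ↔ p ∈ s := by
  rw [mem_smul_iff]; simp

theorem smul_mem_CW {g : Equiv.Perm GolayPt} (hg : g ∈ M24) {s : Finset GolayPt} (hs : s ∈ CW) : g • s ∈ CW := by
  have : g • CW = CW := hg
  rw [← this]; exact Set.smul_mem_smul_set hs

theorem mem_M24_of {g : Equiv.Perm GolayPt} (h : ∀ s ∈ CW, g • s ∈ CW) : g ∈ M24 := by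
  show g • CW = CW
  apply Set.eq_of_subset_of_ncard_le
  · rintro _ ⟨s, hs, rfl⟩; exact h s hs
  · rw [Set.ncard_smul_set]
  · exact Set.toFinite _

theorem smul_mem_CW_iff {g : Equiv.Perm GolayPt} (hg : g ∈ M24) {s : Finset GolayPt} : g • s ∈ CW ↔ s ∈ CW :=
  ⟨fun h => by simpa using smul_mem_CW (inv_mem hg) h, smul_mem_CW hg⟩

theorem smul_mem_octads {g : Equiv.Perm GolayPt} (hg : g ∈ M24) {s : Finset GolayPt} (hs : s ∈ octads) :
    g • s ∈ octads := ⟨smul_mem_CW hg hs.1, by rw [card_smul, hs.2]⟩

theorem smul_mem_dodecads {g : Equiv.Perm GolayPt} (hg : g ∈ M24) {s : Finset GolayPt} (hs : s ∈ dodecads) :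
    g • s ∈ dodecads := ⟨smul_mem_CW hg hs.1, by rw [card_smul, hs.2]⟩

/-- membership test for `M24` -/
def inM24 (c : ℕ) : Bool := valid c && allLt (fun j => isCode (apM c (fld 24 basT j))) 12

theorem inM24_valid {c : ℕ} (h : inM24 c = true) : valid c = true := by
  rw [inM24, Bool.and_eq_true] at h; exact h.1

theorem mem_M24_iff_code {g : Equiv.Perm GolayPt} : g ∈ M24 ↔ inM24 (code g) = true := by
  rw [inM24, valid_code, Bool.true_and, allLt_iff]
  constructor
  · intro hg j hj
    rw [← fs_mem_CW_iff (apM_lt g (fld_lt _ _ _)), ← smul_fs g (fld_lt _ _ _)]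
    exact smul_mem_CW hg (bas_mem_CW hj)
  · intro h
    apply mem_M24_of
    intro s hs
    refine CW_induction (P := fun s => g • s ∈ CW) ?_ ?_ ?_ hs
    · simpa using empty_mem_CW
    · intro s t h1 h2; rw [smul_symmDiff]; exact symmDiff_mem_CW h1 h2
    · intro j hj
      rw [smul_fs g (fld_lt _ _ _)]; exact fs_mem_CW (h j hj)

theorem perm_mem_M24 {c : ℕ} (h : inM24 c = true) : perm c ∈ M24 := by
  rw [mem_M24_iff_code, code_perm (inM24_valid h)]; exact h

theorem code_perm' {c : ℕ} (h : inM24 c = true) : code (perm c) = c := code_perm (inM24_valid h)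

/-- an element of `M24` fixing five points of an octad (or mapping five of its points into it) fixes it -/
theorem smul_octad_eq {g : Equiv.Perm GolayPt} (hg : g ∈ M24) {o o' : Finset GolayPt} (ho : o ∈ octads)
    (ho' : o' ∈ octads) {F : Finset GolayPt} (hF : 5 ≤ F.card) (h1 : F ⊆ o) (h2 : ∀ p ∈ F, g p ∈ o') :
    g • o = o' := by
  apply octad_eq (smul_mem_octads hg ho) ho'
  refine le_trans hF ?_
  rw [← card_smul g F]
  apply Finset.card_le_card
  intro q hq
  rw [mem_smul_iff] at hq
  rw [Finset.mem_inter, mem_smul_iff]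
  exact ⟨h1 hq, by simpa using h2 _ hq⟩

attribute [irreducible] basT genT combT encT1 encT2 enc isCode isOct isDod inM24

end CA.Gol
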