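import Cfsg.Agent.Lib.Golay.Six

/-!
Indexed families of objects, Schreier-tree certificates, orbits of stabilizers on pairs.
-/

set_option autoImplicit false

namespace CA.Gol
open Cfsg
open scoped Pointwise

/-- `y i` (for `i < n` with `v i`) enumerates the set `Y` without repetition -/
structure Fam {X : Type*} (Y : Set X) (y : ℕ → X) (v : ℕ → Bool) (n : ℕ) : Prop where
  mem : ∀ i < n, v i = true → y i ∈ Y
  surj : ∀ x ∈ Y, ∃ i < n, v i = true ∧ y i = x
  inj : ∀ i < n, ∀ j < n, v i = true → v j = true → y i = y j → i = j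

theorem Fam.ncard {X : Type*} {Y : Set X} {y : ℕ → X} {v : ℕ → Bool} {n : ℕ} (F : Fam Y y v n)
    {P : X → Prop} {p : ℕ → Bool} (h : ∀ i < n, v i = true → (P (y i) ↔ p i = true)) :
    {x | x ∈ Y ∧ P x}.ncard = countLt (fun i => v i && p i) n := by
  rw [countLt_eq, ← Set.ncard_coe_finset]
  symm
  apply Set.ncard_congr (fun i _ => y i)
  · intro i hi
    simp only [Finset.coe_filter, Finset.mem_range, Bool.and_eq_true, Set.mem_ofPred_eq] at hi
    exact ⟨F.mem i hi.1 hi.2.1, (h i hi.1 hi.2.1).2 hi.2.2⟩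
  · intro i j hi hj e
    simp only [Finset.coe_filter, Finset.mem_range, Bool.and_eq_true, Set.mem_ofPred_eq] at hi hj
    exact F.inj i hi.1 j hj.1 hi.2.1 hj.2.1 e
  · rintro x ⟨hx, hP⟩
    obtain ⟨i, hi, hv, rfl⟩ := F.surj x hx
    refine ⟨i, ?_, rfl⟩
    simp only [Finset.coe_filter, Finset.mem_range, Bool.and_eq_true, Set.mem_ofPred_eq]
    exact ⟨hi, hv, (h i hi hv).1 hP⟩

theorem Fam.forall {X : Type*} {Y : Set X} {y : ℕ → X} {v : ℕ → Bool} {n : ℕ} (F : Fam Y y v n)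
    {P : X → Prop} {p : ℕ → Bool} (hp : allLt (fun i => !(v i) || p i) n = true)
    (h : ∀ i < n, v i = true → p i = true → P (y i)) : ∀ x ∈ Y, P x := by
  intro x hx
  obtain ⟨i, hi, hv, rfl⟩ := F.surj x hx
  have := allLt_iff.1 hp i hi
  rw [hv, Bool.not_true, Bool.false_or] at this
  exact h i hi hv this

/-- Schreier-tree check: every valid index is a root or moves to a valid index of smaller rank -/
def treeOK (v root : ℕ → Bool) (nxt rk : ℕ → ℕ) (act : ℕ → ℕ → Bool) (n : ℕ) : Bool :=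
  allLt (fun i => !(v i) || root i ||
    force (nxt i) fun j => Nat.blt j n && v j && Nat.blt (rk j) (rk i) && act i j) n

theorem tree_sound {X : Type*} [MulAction (Equiv.Perm GolayPt) X] {H : Subgroup (Equiv.Perm GolayPt)}
    {y : ℕ → X} {v root : ℕ → Bool} {nxt rk : ℕ → ℕ} {act : ℕ → ℕ → Bool} {n : ℕ}
    (hT : treeOK v root nxt rk act n = true)
    (hact : ∀ i < n, ∀ j < n, v i = true → v j = true → act i j = true → ∃ h ∈ H, h • y i = y j) :
    ∀ i < n, v i = true → ∃ r < n, v r = true ∧ root r = true ∧ ∃ h ∈ H, h • y i = y r := by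
  intro i
  induction hr : rk i using Nat.strong_induction_on generalizing i with
  | _ m ih =>
    intro hi hv
    have := allLt_iff.1 hT i hi
    simp only [hv, Bool.not_true, Bool.false_or, Bool.or_eq_true, force_eq, Bool.and_eq_true, blt_iff] at this
    rcases this with h | ⟨⟨⟨h1, h2⟩, h3⟩, h4⟩
    · exact ⟨i, hi, hv, h, 1, H.one_mem, one_smul _ _⟩
    · obtain ⟨r, r1, r2, r3, k, hk, e⟩ := ih _ (hr ▸ h3) _ rfl h1 h2
      obtain ⟨h, hh, e'⟩ := hact i hi _ h1 hv h2 h4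
      exact ⟨r, r1, r2, r3, k * h, H.mul_mem hk hh, by rw [mul_smul, e', e]⟩

/-- entry `k` of a list, zero by default -/
def nth (l : List ℕ) (k : ℕ) : ℕ := l.getD k oneC

theorem nth_mem {H : Subgroup (Equiv.Perm GolayPt)} {l : List ℕ} (hl : ∀ c ∈ l, ∃ h ∈ H, code h = c) (k : ℕ) :
    ∃ h ∈ H, code h = nth l k := by
  rw [nth]
  by_cases hk : k < l.length
  · rw [List.getD_eq_getElem _ _ hk]; exact hl _ (List.getElem_mem hk)
  · rw [List.getD_eq_default _ _ (by omega)]; exact ⟨1, H.one_mem, code_one⟩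

/-! ### Orbits on pairs -/

/-- `M24` is transitive on the pairs `(a, b)` with a given value of `f` -/
def PairTrans {X Y : Type*} [MulAction (Equiv.Perm GolayPt) X] [MulAction (Equiv.Perm GolayPt) Y]
    (A : Set X) (B : Set Y) (f : X → Y → ℕ) : Prop :=
  ∀ a ∈ A, ∀ a' ∈ A, ∀ b ∈ B, ∀ b' ∈ B, f a b = f a' b' → ∃ g ∈ M24, g • a = a' ∧ g • b = b'

section
variable {X Y : Type*} [MulAction (Equiv.Perm GolayPt) X] [MulAction (Equiv.Perm GolayPt) Y]
  {A : Set X} {B : Set Y} {f : X → Y → ℕ}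

theorem PairTrans.symm (h : PairTrans A B f) : PairTrans B A fun b a => f a b := by
  intro b hb b' hb' a ha a' ha' e
  obtain ⟨g, hg, h1, h2⟩ := h a ha a' ha' b hb b' hb' e
  exact ⟨g, hg, h2, h1⟩

theorem pairTrans_of {a0 : X} (hA : ∀ a ∈ A, ∃ g ∈ M24, g • a = a0) (hB : ∀ g ∈ M24, ∀ b ∈ B, g • b ∈ B)
    (hf : ∀ (g : Equiv.Perm GolayPt) a b, f (g • a) (g • b) = f a b)
    (h0 : ∀ b ∈ B, ∀ b' ∈ B, f a0 b = f a0 b' → ∃ g ∈ M24, g • a0 = a0 ∧ g • b = b') : PairTrans A B f := by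
  intro a ha a' ha' b hb b' hb' e
  obtain ⟨g, hg, e1⟩ := hA a ha
  obtain ⟨k, hk, e2⟩ := hA a' ha'
  obtain ⟨h, hh, e3, e4⟩ := h0 _ (hB g hg b hb) _ (hB k hk b' hb') (by
    rw [← e1, hf, e1, ← e2, hf, e])
  refine ⟨k⁻¹ * h * g, mul_mem (mul_mem (inv_mem hk) hh) hg, ?_, ?_⟩
  · rw [mul_smul, mul_smul, e1, e3, ← e2, inv_smul_smul]
  · rw [mul_smul, mul_smul, e4, inv_smul_smul]

/-- pair transitivity at a base object from a Schreier tree whose roots have distinct invariants -/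
theorem base_pair_of_tree {a0 : X} {y : ℕ → Y} {v root : ℕ → Bool} {n : ℕ} (F : Fam B y v n)
    (hf : ∀ (g : Equiv.Perm GolayPt) a b, f (g • a) (g • b) = f a b)
    (hT : ∀ i < n, v i = true → ∃ r < n, v r = true ∧ root r = true ∧
      ∃ h ∈ M24 ⊓ MulAction.stabilizer (Equiv.Perm GolayPt) a0, h • y i = y r)
    (hroot : ∀ r < n, ∀ r' < n, v r = true → v r' = true → root r = true → root r' = true →
      f a0 (y r) = f a0 (y r') → r = r') :
    ∀ b ∈ B, ∀ b' ∈ B, f a0 b = f a0 b' → ∃ g ∈ M24, g • a0 = a0 ∧ g • b = b' := by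
  intro b hb b' hb' e
  obtain ⟨i, hi, hv, rfl⟩ := F.surj b hb
  obtain ⟨j, hj, hv', rfl⟩ := F.surj b' hb'
  obtain ⟨r, r1, r2, r3, h, ⟨hh, hh'⟩, e1⟩ := hT i hi hv
  obtain ⟨s, s1, s2, s3, k, ⟨hk, hk'⟩, e2⟩ := hT j hj hv'
  have hh2 : h • a0 = a0 := hh'
  have hk2 : k • a0 = a0 := hk'
  have : r = s := hroot r r1 s s1 r2 s2 r3 s3 (by
    rw [← e1, ← e2]
    conv_lhs => rw [← hh2]
    conv_rhs => rw [← hk2]
    rw [hf, hf, e])
  subst this
  refine ⟨k⁻¹ * h, mul_mem (inv_mem hk) hh, ?_, ?_⟩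
  · rw [mul_smul, hh2, inv_smul_eq_iff, hk2]
  · rw [mul_smul, e1, ← e2, inv_smul_smul]

theorem ncard_inv_transport {a a0 : X} {g : Equiv.Perm GolayPt} (hg : g ∈ M24) (e : g • a = a0)
    (hB : ∀ g ∈ M24, ∀ b ∈ B, g • b ∈ B) {P : X → Y → Prop}
    (hP : ∀ b, P (g • a) (g • b) ↔ P a b) : {b | b ∈ B ∧ P a b}.ncard = {b | b ∈ B ∧ P a0 b}.ncard := by
  apply Set.ncard_congr (fun b _ => g • b)
  · rintro b ⟨h1, h2⟩; exact ⟨hB g hg b h1, by rw [← e, hP]; exact h2⟩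
  · intro b b' _ _ h; exact smul_left_cancel g h
  · rintro b ⟨h1, h2⟩
    refine ⟨g⁻¹ • b, ⟨hB _ (inv_mem hg) b h1, ?_⟩, smul_inv_smul g b⟩
    rw [← hP, smul_inv_smul, e]; exact h2

theorem ncard_fixed_conj (hB : ∀ g ∈ M24, ∀ b ∈ B, g • b ∈ B) {k g g0 : Equiv.Perm GolayPt} (hk : k ∈ M24)
    (e : k * g * k⁻¹ = g0) : {b | b ∈ B ∧ g • b = b}.ncard = {b | b ∈ B ∧ g0 • b = b}.ncard := by
  apply Set.ncard_congr (fun b _ => k • b)
  · rintro b ⟨h1, h2⟩; exact ⟨hB k hk b h1, by rw [← e, conj_smul_eq_iff]; exact h2⟩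
  · intro b b' _ _ h; exact smul_left_cancel k h
  · rintro b ⟨h1, h2⟩
    refine ⟨k⁻¹ • b, ⟨hB _ (inv_mem hk) b h1, ?_⟩, smul_inv_smul k b⟩
    rw [← conj_smul_eq_iff (k := k), smul_inv_smul, e]; exact h2

theorem PairTrans.orbit_eq [MulAction M24 X] [MulAction M24 Y]
    (hX : ∀ (g : M24) (x : X), g • x = (g : Equiv.Perm GolayPt) • x)
    (hY : ∀ (g : M24) (x : Y), g • x = (g : Equiv.Perm GolayPt) • x)
    (h : PairTrans A B f) (hB : ∀ g ∈ M24, ∀ b ∈ B, g • b ∈ B)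
    (hf : ∀ (g : Equiv.Perm GolayPt) a b, f (g • a) (g • b) = f a b) {a : X} (ha : a ∈ A) {b : Y} (hb : b ∈ B) :
    MulAction.orbit (MulAction.stabilizer M24 a) b = {b' | b' ∈ B ∧ f a b' = f a b} := by
  ext b'
  constructor
  · rintro ⟨⟨g, hg⟩, rfl⟩
    have h1 : (g : Equiv.Perm GolayPt) • a = a := by rw [← hX]; exact hg
    show g • b ∈ B ∧ f a (g • b) = f a b
    rw [hY]
    refine ⟨hB _ g.2 b hb, ?_⟩
    conv_lhs => rw [← h1]
    exact hf _ _ _
  · rintro ⟨h1, h2⟩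
    obtain ⟨g, hg, e1, e2⟩ := h a ha a ha b hb b' h1 h2.symm
    refine ⟨⟨⟨g, hg⟩, by rw [MulAction.mem_stabilizer_iff, hX]; exact e1⟩, ?_⟩
    show (⟨g, hg⟩ : M24) • b = b'
    rw [hY]; exact e2

theorem PairTrans.orbit_data [MulAction M24 X] [MulAction M24 Y]
    (hX : ∀ (g : M24) (x : X), g • x = (g : Equiv.Perm GolayPt) • x)
    (hY : ∀ (g : M24) (x : Y), g • x = (g : Equiv.Perm GolayPt) • x)
    (h : PairTrans A B f) (hB : ∀ g ∈ M24, ∀ b ∈ B, g • b ∈ B)
    (hf : ∀ (g : Equiv.Perm GolayPt) a b, f (g • a) (g • b) = f a b) {a a0 : X} (ha : a ∈ A)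
    (h0 : ∃ g ∈ M24, g • a = a0) {v m : ℕ} (hm : {b | b ∈ B ∧ f a0 b = v}.ncard = m) (hm0 : m ≠ 0) :
    ∃ b ∈ B, (MulAction.orbit (MulAction.stabilizer M24 a) b).ncard = m ∧
      MulAction.orbit (MulAction.stabilizer M24 a) b = {b' | b' ∈ B ∧ f a b' = v} := by
  obtain ⟨g, hg, e⟩ := h0
  rw [← ncard_inv_transport (P := fun a b => f a b = v) hg e hB (fun b => by rw [hf])] at hm
  obtain ⟨b, hb, hv⟩ := Set.nonempty_of_ncard_ne_zero (hm ▸ hm0)
  have := h.orbit_eq hX hY hB hf ha hb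
  rw [hv] at this
  exact ⟨b, hb, by rw [this, hm], this⟩

theorem PairTrans.orbits3 [MulAction M24 X] [MulAction M24 Y]
    (hX : ∀ (g : M24) (x : X), g • x = (g : Equiv.Perm GolayPt) • x)
    (hY : ∀ (g : M24) (x : Y), g • x = (g : Equiv.Perm GolayPt) • x)
    (h : PairTrans A B f) (hB : ∀ g ∈ M24, ∀ b ∈ B, g • b ∈ B)
    (hf : ∀ (g : Equiv.Perm GolayPt) a b, f (g • a) (g • b) = f a b) {a a0 : X} (ha : a ∈ A)
    (h0 : ∃ g ∈ M24, g • a = a0) {v1 v2 v3 m1 m2 m3 : ℕ}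
    (h1 : {b | b ∈ B ∧ f a0 b = v1}.ncard = m1) (h2 : {b | b ∈ B ∧ f a0 b = v2}.ncard = m2)
    (h3 : {b | b ∈ B ∧ f a0 b = v3}.ncard = m3) (n1 : m1 ≠ 0) (n2 : m2 ≠ 0) (n3 : m3 ≠ 0)
    (hc : ∀ b ∈ B, f a0 b = v1 ∨ f a0 b = v2 ∨ f a0 b = v3) :
    ∃ X₁ ∈ B, ∃ X₂ ∈ B, ∃ X₃ ∈ B, (MulAction.orbit (MulAction.stabilizer M24 a) X₁).ncard = m1 ∧
      (MulAction.orbit (MulAction.stabilizer M24 a) X₂).ncard = m2 ∧
      (MulAction.orbit (MulAction.stabilizer M24 a) X₃).ncard = m3 ∧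
      B = MulAction.orbit (MulAction.stabilizer M24 a) X₁ ∪ MulAction.orbit (MulAction.stabilizer M24 a) X₂ ∪
        MulAction.orbit (MulAction.stabilizer M24 a) X₃ := by
  obtain ⟨b1, hb1, c1, e1⟩ := h.orbit_data hX hY hB hf ha h0 h1 n1
  obtain ⟨b2, hb2, c2, e2⟩ := h.orbit_data hX hY hB hf ha h0 h2 n2
  obtain ⟨b3, hb3, c3, e3⟩ := h.orbit_data hX hY hB hf ha h0 h3 n3
  refine ⟨b1, hb1, b2, hb2, b3, hb3, c1, c2, c3, ?_⟩
  rw [e1, e2, e3]
  obtain ⟨g, hg, e⟩ := h0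
  ext b
  simp only [Set.mem_union, Set.mem_ofPred_eq]
  constructor
  · intro hb
    have := hc _ (hB g hg b hb)
    rw [← e, hf] at this
    tauto
  · tauto

theorem PairTrans.orbits4 [MulAction M24 X] [MulAction M24 Y]
    (hX : ∀ (g : M24) (x : X), g • x = (g : Equiv.Perm GolayPt) • x)
    (hY : ∀ (g : M24) (x : Y), g • x = (g : Equiv.Perm GolayPt) • x)
    (h : PairTrans A B f) (hB : ∀ g ∈ M24, ∀ b ∈ B, g • b ∈ B)
    (hf : ∀ (g : Equiv.Perm GolayPt) a b, f (g • a) (g • b) = f a b) {a a0 : X} (ha : a ∈ A)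
    (h0 : ∃ g ∈ M24, g • a = a0) {v1 v2 v3 v4 m1 m2 m3 m4 : ℕ}
    (h1 : {b | b ∈ B ∧ f a0 b = v1}.ncard = m1) (h2 : {b | b ∈ B ∧ f a0 b = v2}.ncard = m2)
    (h3 : {b | b ∈ B ∧ f a0 b = v3}.ncard = m3) (h4 : {b | b ∈ B ∧ f a0 b = v4}.ncard = m4)
    (n1 : m1 ≠ 0) (n2 : m2 ≠ 0) (n3 : m3 ≠ 0) (n4 : m4 ≠ 0)
    (hc : ∀ b ∈ B, f a0 b = v1 ∨ f a0 b = v2 ∨ f a0 b = v3 ∨ f a0 b = v4) :
    ∃ X₁ ∈ B, ∃ X₂ ∈ B, ∃ X₃ ∈ B, ∃ X₄ ∈ B, (MulAction.orbit (MulAction.stabilizer M24 a) X₁).ncard = m1 ∧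
      (MulAction.orbit (MulAction.stabilizer M24 a) X₂).ncard = m2 ∧
      (MulAction.orbit (MulAction.stabilizer M24 a) X₃).ncard = m3 ∧
      (MulAction.orbit (MulAction.stabilizer M24 a) X₄).ncard = m4 ∧
      B = MulAction.orbit (MulAction.stabilizer M24 a) X₁ ∪ MulAction.orbit (MulAction.stabilizer M24 a) X₂ ∪
        MulAction.orbit (MulAction.stabilizer M24 a) X₃ ∪ MulAction.orbit (MulAction.stabilizer M24 a) X₄ := by
  obtain ⟨b1, hb1, c1, e1⟩ := h.orbit_data hX hY hB hf ha h0 h1 n1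
  obtain ⟨b2, hb2, c2, e2⟩ := h.orbit_data hX hY hB hf ha h0 h2 n2
  obtain ⟨b3, hb3, c3, e3⟩ := h.orbit_data hX hY hB hf ha h0 h3 n3
  obtain ⟨b4, hb4, c4, e4⟩ := h.orbit_data hX hY hB hf ha h0 h4 n4
  refine ⟨b1, hb1, b2, hb2, b3, hb3, b4, hb4, c1, c2, c3, c4, ?_⟩
  rw [e1, e2, e3, e4]
  obtain ⟨g, hg, e⟩ := h0
  ext b
  simp only [Set.mem_union, Set.mem_ofPred_eq]
  constructor
  · intro hb
    have := hc _ (hB g hg b hb)
    rw [← e, hf] at this
    tauto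
  · tauto

end

/-! ### Code words as a family -/

/-- the word with information bits `i` has weight `w` -/
def wtIs (w i : ℕ) : Bool := Nat.beq (popc (enc i)) w

theorem famWeight (w : ℕ) : Fam (wordsOfWeight (golayCode : Set (GolayPt → ZMod 2)) w) (fun i => fs (enc i))
    (wtIs w) 4096 where
  mem i hi hv := ⟨enc_mem_CW hi, by rw [card_fs]; exact beq_iff.1 hv⟩
  surj x hx := by
    obtain ⟨i, hi, rfl⟩ := exists_enc hx.1
    exact ⟨i, hi, beq_iff.2 (by rw [← card_fs]; exact hx.2), rfl⟩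
  inj i hi j hj _ _ e := by
    rw [← enc_land hi, ← enc_land hj, fs_inj (enc_lt hi) (enc_lt hj) e]

theorem famOct : Fam octads (fun i => fs (enc i)) (wtIs 8) 4096 := famWeight 8
theorem famDod : Fam dodecads (fun i => fs (enc i)) (wtIs 12) 4096 := famWeight 12

/-- tree check for code words: entry `i` of `T` holds a generator index (low 2 bits) and a rank -/
def treeW (w : ℕ) (gens : List ℕ) (root : ℕ → Bool) (T : ℕ) : Bool :=
  treeOK (wtIs w) root (fun i => Nat.land (apM (nth gens (Nat.land (fld 8 T i) 3)) (enc i)) 4095)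
    (fun i => Nat.shiftRight (fld 8 T i) 2)
    (fun i j => Nat.beq (apM (nth gens (Nat.land (fld 8 T i) 3)) (enc i)) (enc j)) 4096

theorem treeW_sound {H : Subgroup (Equiv.Perm GolayPt)} {w : ℕ} {gens : List ℕ} {root : ℕ → Bool} {T : ℕ}
    (hT : treeW w gens root T = true) (hg : ∀ c ∈ gens, ∃ h ∈ H, code h = c) :
    ∀ i < 4096, wtIs w i = true → ∃ r < 4096, wtIs w r = true ∧ root r = true ∧
      ∃ h ∈ H, h • fs (enc i) = fs (enc r) := by
  refine tree_sound (y := fun i => fs (enc i)) hT fun i hi j hj _ _ ha => ?_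
  obtain ⟨h, hh, e⟩ := nth_mem hg (Nat.land (fld 8 T i) 3)
  refine ⟨h, hh, ?_⟩
  rw [smul_fs h (enc_lt hi), e, beq_iff.1 ha]

/-! ### Families of finsets as lists of masks -/

/-- the family of finsets given by a list of masks -/
def fsL (l : List ℕ) : Finset (Finset GolayPt) := (l.map fs).toFinset

theorem mem_fsL {l : List ℕ} {s : Finset GolayPt} : s ∈ fsL l ↔ ∃ m ∈ l, fs m = s := by simp [fsL]

/-- strictly increasing list of masks -/
def Good (l : List ℕ) : Prop := l.Pairwise (· < ·) ∧ ∀ m ∈ l, m < 2 ^ 24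

theorem Good.nodup_map {l : List ℕ} (h : Good l) : (l.map fs).Nodup := by
  rw [List.Nodup, List.pairwise_map]
  refine List.Pairwise.imp_of_mem ?_ h.1
  intro a b ha hb hab e
  exact hab.ne (fs_inj (h.2 a ha) (h.2 b hb) e)

theorem Good.card {l : List ℕ} (h : Good l) : (fsL l).card = l.length := by
  rw [fsL, List.toFinset_card_of_nodup h.nodup_map, List.length_map]

theorem Good.sum {l : List ℕ} (h : Good l) (f : Finset GolayPt → ℕ) :
    ∑ s ∈ fsL l, f s = sumL l fun m => f (fs m) := by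
  rw [fsL, List.sum_toFinset _ h.nodup_map, sumL_eq, List.map_map]; rfl

theorem fs_mem_fsL {l : List ℕ} (h : ∀ m ∈ l, m < 2 ^ 24) {m : ℕ} (hm : m < 2 ^ 24) : fs m ∈ fsL l ↔ m ∈ l := by
  rw [mem_fsL]
  constructor
  · rintro ⟨m', h1, h2⟩; rw [← fs_inj (h m' h1) hm h2]; exact h1
  · intro h1; exact ⟨m, h1, rfl⟩

theorem Good.eq {l l' : List ℕ} (h : Good l) (h' : Good l') (e : fsL l = fsL l') : l = l' := by
  apply List.Pairwise.eq_of_mem_iff h.1 h'.1
  intro m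
  constructor
  · intro hm; rw [← fs_mem_fsL h'.2 (h.2 m hm), ← e, fs_mem_fsL h.2 (h.2 m hm)]; exact hm
  · intro hm; rw [← fs_mem_fsL h.2 (h'.2 m hm), e, fs_mem_fsL h'.2 (h'.2 m hm)]; exact hm

/-- the code `c` maps every mask of `l` into `l'` -/
def actL (c : ℕ) (l l' : List ℕ) : Bool := allL l fun m => force (apM c m) fun x => memL x l'

theorem mem_smul_fam {g : Equiv.Perm GolayPt} {S : Finset (Finset GolayPt)} {s : Finset GolayPt} :
    g • s ∈ g • S ↔ s ∈ S := Finset.smul_mem_smul_finset_iff g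

theorem actL_iff {g : Equiv.Perm GolayPt} {l l' : List ℕ} (h : Good l) (h' : Good l') (e : l.length = l'.length) :
    g • fsL l = fsL l' ↔ actL (code g) l l' = true := by
  simp only [actL, allL_iff, force_eq, memL_iff]
  constructor
  · intro e1 m hm
    rw [← fs_mem_fsL h'.2 (apM_lt g (h.2 m hm)), ← smul_fs g (h.2 m hm), ← e1, mem_smul_fam]
    exact mem_fsL.2 ⟨m, hm, rfl⟩
  · intro h1
    apply Finset.eq_of_subset_of_card_le
    · intro s hs
      obtain ⟨t, ht, rfl⟩ := Finset.mem_smul_finset.1 hs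
      obtain ⟨m, hm, rfl⟩ := mem_fsL.1 ht
      rw [smul_fs g (h.2 m hm)]
      exact mem_fsL.2 ⟨_, h1 m hm, rfl⟩
    · rw [Finset.card_smul_finset, h.card, h'.card, e]

/-- the three masks of a table entry -/
def parts3 (e : ℕ) : List ℕ :=
  [Nat.land e 16777215, Nat.land (Nat.shiftRight e 24) 16777215, Nat.land (Nat.shiftRight e 48) 16777215]

/-- the six masks of a table entry -/
def parts6 (e : ℕ) : List ℕ :=
  [Nat.land e 16777215, Nat.land (Nat.shiftRight e 24) 16777215, Nat.land (Nat.shiftRight e 48) 16777215,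
    Nat.land (Nat.shiftRight e 72) 16777215, Nat.land (Nat.shiftRight e 96) 16777215,
    Nat.land (Nat.shiftRight e 120) 16777215]

theorem land_full_lt (x : ℕ) : Nat.land x 16777215 < 2 ^ 24 := lt_of_le_of_lt Nat.and_le_right (by norm_num)

theorem land_full_eq (x : ℕ) : Nat.land x 16777215 = x % 16777216 := Nat.and_two_pow_sub_one_eq_mod x 24

theorem shiftRight_eq' (x n : ℕ) : Nat.shiftRight x n = x / 2 ^ n := Nat.shiftRight_eq_div_pow x n

theorem parts3_lt (e : ℕ) : ∀ m ∈ parts3 e, m < 2 ^ 24 := by simp only [parts3]; simp [land_full_lt, -Nat.land_eq, -Nat.reducePow]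
theorem parts6_lt (e : ℕ) : ∀ m ∈ parts6 e, m < 2 ^ 24 := by simp only [parts6]; simp [land_full_lt, -Nat.land_eq, -Nat.reducePow]

theorem parts3_inj {a b : ℕ} (ha : a < 2 ^ 72) (hb : b < 2 ^ 72) (h : parts3 a = parts3 b) : a = b := by
  simp only [parts3, List.cons.injEq, land_full_eq, shiftRight_eq'] at h
  omega

theorem parts6_inj {a b : ℕ} (ha : a < 2 ^ 144) (hb : b < 2 ^ 144) (h : parts6 a = parts6 b) : a = b := by
  simp only [parts6, List.cons.injEq, land_full_eq, shiftRight_eq'] at h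
  omega

/-- strict increase test -/
def incr : List ℕ → Bool
  | a :: b :: l => Nat.blt a b && incr (b :: l)
  | _ => true

theorem incr_sound : ∀ {l : List ℕ}, incr l = true → l.Pairwise (· < ·)
  | [], _ => List.Pairwise.nil
  | [_], _ => List.pairwise_singleton _ _
  | a :: b :: l, h => by
    rw [incr, Bool.and_eq_true, blt_iff] at h
    have ih := incr_sound h.2
    rw [List.pairwise_cons] at ih ⊢
    refine ⟨fun x hx => ?_, List.pairwise_cons.2 ih⟩
    rcases List.mem_cons.1 hx with rfl | hx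
    · exact h.1
    · exact h.1.trans (ih.1 x hx)

theorem inj_of_incr {e : ℕ → ℕ} {n : ℕ} (h : ∀ i, i + 1 < n → e i < e (i + 1)) {i j : ℕ} (hi : i < n) (hj : j < n)
    (hij : e i = e j) : i = j := by
  have key : ∀ d i, i + d + 1 < n → e i < e (i + d + 1) := by
    intro d
    induction d with
    | zero => intro i hi; exact h i hi
    | succ d ih => intro i hi; exact (ih i (by omega)).trans (h _ hi)
  rcases lt_trichotomy i j with h1 | h1 | h1
  · obtain ⟨d, rfl⟩ := Nat.exists_eq_add_of_lt h1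
    exact absurd hij (key d i hj).ne
  · exact h1
  · obtain ⟨d, rfl⟩ := Nat.exists_eq_add_of_lt h1
    exact absurd hij (key d j hi).ne'

/-- sum of the squared intersection sizes of a set with the members of a family -/
def inv1 (o : Finset GolayPt) (S : Finset (Finset GolayPt)) : ℕ := ∑ t ∈ S, (o ∩ t).card ^ 2

/-- the same for two families -/
def inv2 (T S : Finset (Finset GolayPt)) : ℕ := ∑ o ∈ T, inv1 o S

theorem sum_smul_fam (g : Equiv.Perm GolayPt) (S : Finset (Finset GolayPt)) (f : Finset GolayPt → ℕ) :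
    ∑ t ∈ g • S, f t = ∑ t ∈ S, f (g • t) := by
  rw [Finset.smul_finset_def, Finset.sum_image fun a _ b _ h => smul_left_cancel g h]

theorem inv1_smul (g : Equiv.Perm GolayPt) (o : Finset GolayPt) (S : Finset (Finset GolayPt)) :
    inv1 (g • o) (g • S) = inv1 o S := by
  simp only [inv1, sum_smul_fam, ← smul_inter, card_smul]

theorem inv2_smul (g : Equiv.Perm GolayPt) (T S : Finset (Finset GolayPt)) : inv2 (g • T) (g • S) = inv2 T S := by
  simp only [inv2, sum_smul_fam, inv1_smul]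

/-- computable form of `inv1` -/
def inv1C (m : ℕ) (l : List ℕ) : ℕ := sumL l fun t => Nat.pow (popc (Nat.land m t)) 2

/-- computable form of `inv2` -/
def inv2C (l l' : List ℕ) : ℕ := sumL l fun m => inv1C m l'

theorem inv1_eq (m : ℕ) {l : List ℕ} (h : Good l) : inv1 (fs m) (fsL l) = inv1C m l := by
  rw [inv1, h.sum, inv1C]
  simp only [← fs_land, card_fs]; rfl

theorem inv2_eq {l l' : List ℕ} (h : Good l) (h' : Good l') : inv2 (fsL l) (fsL l') = inv2C l l' := by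
  rw [inv2, h.sum, inv2C]
  simp only [inv1_eq _ h']

end CA.Gol
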