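import Cfsg.Agent.Lib.Golay.Objs

/-!
The stabilizer of a dodecad is sharply 5-transitive on it.
-/

set_option autoImplicit false

namespace CA.Gol
open Cfsg
open scoped Pointwise

/-- stabilizer of the dodecad `D0` -/
def H12 : Subgroup (Equiv.Perm GolayPt) := M24 ⊓ MulAction.stabilizer (Equiv.Perm GolayPt) (fs D0)

theorem mem_H12 {g : Equiv.Perm GolayPt} : g ∈ H12 ↔ g ∈ M24 ∧ g • fs D0 = fs D0 := Iff.rfl

/-- level 1 -/
def K1 : Lev := (23, [(0, 0x1616a923219a8f9b5174856a3898e),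
    (1, 0xd5532522d43d69915c600e16b88ec),
    (2, 0x140b4b357243d419c5c301ea4332e9),
    (3, 0x192d2a2e25726006d58f0a15330ae7),
    (6, 0x34c8b9362a4b0a78580ebbeb440861),
    (7, 0x3a8a4b4e2b3224ea41e365db508809),
    (8, 0x4526d5c23560141290e91bad2788d7),
    (9, 0x4b56a2d6330dc86b486778290609c8),
    (12, 0x641b555a34b8e6822cc171e450092f),
    (14, 0x72e4582a24386c3ad2e04326d489e6),
    (15, 0x7ca906963601eb754c2c3248b70903),
    (23, 0xbdab49ca307b9ac5a928398a418820)])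
/-- level 2 -/
def K2 : Lev := (0, [(0, 0xbdab49ca307b9ac5a928398a418820),
    (1, 0xb96362516a1a26e6d5e749a5013001),
    (2, 0xbae76251b1185462c127602b243dc2),
    (3, 0xba970690b660649ad0c83be3370803),
    (6, 0xbcd76848b11b142690e90beb4401c6),
    (7, 0xbcd4daae457828e258c2622111a427),
    (8, 0xbd4932ae121bac9a45860bd4d11c08),
    (9, 0xb92b38b692186c8814cc71d4b13c09),
    (12, 0xbd6d45117079da08cd09708b21982c),
    (14, 0xbaa6db44857b287954460260b1a02e),
    (15, 0xbc2245ced4100a7548ce426ad60c2f)])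
/-- level 3 -/
def K3 : Lev := (1, [(1, 0xbdab49ca307b9ac5a928398a418820),
    (2, 0xbda2a2caad79e085d12c70e6430440),
    (3, 0xb92d4aae2d3224e54049786653b060),
    (6, 0xbae858125643e698d5c11894d3b0c0),
    (7, 0xbd88d2ca6a70963851897a2b1304e0),
    (8, 0xbaa156ce91118aeb106163d723a500),
    (9, 0xbc6ab240ad71a879298140a7678d20),
    (12, 0xb92708acaa79a829352119eb672180),
    (14, 0xbc9b1a596413ea9994683b20a305c0),
    (15, 0xbc944a5a113ba6ca95031256d305e0)])
/-- level 4 -/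
def K4 : Lev := (2, [(2, 0xbdab49ca307b9ac5a928398a418820),
    (3, 0xb90b28aad43b1686c12613ab378c20),
    (6, 0xb963022ab471e436ade84b27611820),
    (7, 0xbda74ac88b73d4983583118b141c20),
    (8, 0xbc4b2236d41260352d863be7572020),
    (9, 0xbb6965124570eac8cd0678a0b3a420),
    (12, 0xbc2515d5b34b8a3b10cf1228a3b020),
    (14, 0xbc965859b511c889c46979a8a63820),
    (15, 0xbca055d95338a23a910c71a8d4bc20)])
/-- level 5 -/
def K5 : Lev := (3, [(3, 0xbdab49ca307b9ac5a928398a418820),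
    (6, 0xb92322aa6d61e09a2d0f1bab630820),
    (7, 0xb90ab8d2ad41a0f5498970e7638820),
    (8, 0xbb555a1644332c38ccee7a57040820),
    (9, 0xbc2455ce961bc87ac5c64314d48820),
    (12, 0xbb693545643a2ce2d4c34be5060820),
    (14, 0xbda6aaacb048da8951ec31e2470820),
    (15, 0xbc1719555672486994676228d78820)])

/-- membership test -/
def inH12 (c : ℕ) : Bool := inM24 c && Nat.beq (apM c D0) D0

theorem memb12 (c : ℕ) (h : inH12 c = true) : ∃ t ∈ H12, code t = c := by
  rw [inH12, Bool.and_eq_true, beq_iff] at h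
  refine ⟨perm c, ⟨perm_mem_M24 h.1, ?_⟩, code_perm' h.1⟩
  exact (smul_fs_eq_iff _ D0_lt D0_lt).2 (by rw [code_perm' h.1]; exact h.2)

theorem kchain5 : Chain H12 [3, 2, 1, 0, 23] [] := by
  intro g hg hf
  have := chain5.forall_of_searchAll (ok := fun _ => true)
    (leaf := fun c => Nat.beq c oneC || !(Nat.beq (apM c D0) D0)) (by decide +kernel) hg.1 hf (pass_true _ _ _)
  rw [beq_iff.2 ((smul_fs_eq_iff g D0_lt D0_lt).1 hg.2), Bool.not_true, Bool.or_false, beq_iff] at this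
  exact code_eq_one_iff.1 this

theorem kchain4 : Chain H12 [2, 1, 0, 23] [K5] :=
  chain_cons memb12 D0 (by decide +kernel) (fun _ hg _ => hg.2) kchain5
theorem kchain3 : Chain H12 [1, 0, 23] [K4, K5] :=
  chain_cons memb12 D0 (by decide +kernel) (fun _ hg _ => hg.2) kchain4
theorem kchain2 : Chain H12 [0, 23] [K3, K4, K5] :=
  chain_cons memb12 D0 (by decide +kernel) (fun _ hg _ => hg.2) kchain3
theorem kchain1 : Chain H12 [23] [K2, K3, K4, K5] :=
  chain_cons memb12 D0 (by decide +kernel) (fun _ hg _ => hg.2) kchain2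
theorem kchain0 : Chain H12 [] [K1, K2, K3, K4, K5] :=
  chain_cons memb12 D0 (by decide +kernel) (fun _ hg _ => hg.2) kchain1

theorem mem_of_smul_eq {g : Equiv.Perm GolayPt} {d e : Finset GolayPt} (h : g • d = e) {p : GolayPt} (hp : p ∈ d) :
    g p ∈ e := h ▸ apply_mem_smul.2 hp

theorem dtrans1 {d : Finset GolayPt} (hd : d ∈ dodecads) {a : GolayPt} (ha : a ∈ d) :
    ∃ g ∈ M24, g • d = fs D0 ∧ g a = pt 23 := by
  obtain ⟨g, hg, e0⟩ := dodecad_trans0 hd
  obtain ⟨t, ht, _, e⟩ := exists_map_level kchain0 D0 (by decide +kernel) (g a) (mem_of_smul_eq e0 ha) (by simp)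
  exact ⟨t * g, mul_mem ht.1 hg, by rw [mul_smul, e0]; exact ht.2, e⟩

theorem dtrans2 {d : Finset GolayPt} (hd : d ∈ dodecads) {a b : GolayPt} (ha : a ∈ d) (hb : b ∈ d) (hab : a ≠ b) :
    ∃ g ∈ M24, g • d = fs D0 ∧ g a = pt 23 ∧ g b = pt 0 := by
  obtain ⟨g, hg, e0, e1⟩ := dtrans1 hd ha
  obtain ⟨t, ht, hf, e⟩ := exists_map_level kchain1 D0 (by decide +kernel) (g b) (mem_of_smul_eq e0 hb)
    (by simp only [List.mem_singleton, forall_eq, ← e1]; exact g.injective.ne hab.symm)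
  simp only [fixes_cons] at hf
  exact ⟨t * g, mul_mem ht.1 hg, by rw [mul_smul, e0]; exact ht.2, by rw [Equiv.Perm.mul_apply, e1, hf.1], e⟩

theorem dtrans3 {d : Finset GolayPt} (hd : d ∈ dodecads) {a b c : GolayPt} (ha : a ∈ d) (hb : b ∈ d) (hc : c ∈ d)
    (hab : a ≠ b) (hac : a ≠ c) (hbc : b ≠ c) :
    ∃ g ∈ M24, g • d = fs D0 ∧ g a = pt 23 ∧ g b = pt 0 ∧ g c = pt 1 := by
  obtain ⟨g, hg, e0, e1, e2⟩ := dtrans2 hd ha hb hab
  obtain ⟨t, ht, hf, e⟩ := exists_map_level kchain2 D0 (by decide +kernel) (g c) (mem_of_smul_eq e0 hc)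
    (by simp only [List.mem_cons, List.not_mem_nil, or_false, forall_eq_or_imp, forall_eq, ← e1, ← e2]
        exact ⟨g.injective.ne hbc.symm, g.injective.ne hac.symm⟩)
  simp only [fixes_cons] at hf
  exact ⟨t * g, mul_mem ht.1 hg, by rw [mul_smul, e0]; exact ht.2, by rw [Equiv.Perm.mul_apply, e1, hf.2.1],
    by rw [Equiv.Perm.mul_apply, e2, hf.1], e⟩

theorem dtrans4 {d : Finset GolayPt} (hd : d ∈ dodecads) {a b c x : GolayPt} (ha : a ∈ d) (hb : b ∈ d) (hc : c ∈ d)
    (hx : x ∈ d) (hab : a ≠ b) (hac : a ≠ c) (hbc : b ≠ c) (had : a ≠ x) (hbd : b ≠ x) (hcd : c ≠ x) :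
    ∃ g ∈ M24, g • d = fs D0 ∧ g a = pt 23 ∧ g b = pt 0 ∧ g c = pt 1 ∧ g x = pt 2 := by
  obtain ⟨g, hg, e0, e1, e2, e3⟩ := dtrans3 hd ha hb hc hab hac hbc
  obtain ⟨t, ht, hf, e⟩ := exists_map_level kchain3 D0 (by decide +kernel) (g x) (mem_of_smul_eq e0 hx)
    (by simp only [List.mem_cons, List.not_mem_nil, or_false, forall_eq_or_imp, forall_eq, ← e1, ← e2, ← e3]
        exact ⟨g.injective.ne hcd.symm, g.injective.ne hbd.symm, g.injective.ne had.symm⟩)
  simp only [fixes_cons] at hf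
  exact ⟨t * g, mul_mem ht.1 hg, by rw [mul_smul, e0]; exact ht.2, by rw [Equiv.Perm.mul_apply, e1, hf.2.2.1],
    by rw [Equiv.Perm.mul_apply, e2, hf.2.1], by rw [Equiv.Perm.mul_apply, e3, hf.1], e⟩

theorem dtrans5 {d : Finset GolayPt} (hd : d ∈ dodecads) {x : Fin 5 → GolayPt} (hx : Function.Injective x)
    (hxd : ∀ i, x i ∈ d) : ∃ g ∈ M24, g • d = fs D0 ∧ ∀ i, g (x i) = base5 i := by
  obtain ⟨g, hg, e0, e1, e2, e3, e4⟩ := dtrans4 hd (hxd 0) (hxd 1) (hxd 2) (hxd 3)
    (hx.ne (by decide)) (hx.ne (by decide)) (hx.ne (by decide)) (hx.ne (by decide)) (hx.ne (by decide))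
    (hx.ne (by decide))
  obtain ⟨t, ht, hf, e⟩ := exists_map_level kchain4 D0 (by decide +kernel) (g (x 4)) (mem_of_smul_eq e0 (hxd 4))
    (by simp only [List.mem_cons, List.not_mem_nil, or_false, forall_eq_or_imp, forall_eq, ← e1, ← e2, ← e3, ← e4]
        exact ⟨g.injective.ne (hx.ne (by decide)), g.injective.ne (hx.ne (by decide)),
          g.injective.ne (hx.ne (by decide)), g.injective.ne (hx.ne (by decide))⟩)
  simp only [fixes_cons] at hf
  refine ⟨t * g, mul_mem ht.1 hg, by rw [mul_smul, e0]; exact ht.2, fun i => ?_⟩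
  fin_cases i
  · exact (congrArg t e1).trans hf.2.2.2.1
  · exact (congrArg t e2).trans hf.2.2.1
  · exact (congrArg t e3).trans hf.2.1
  · exact (congrArg t e4).trans hf.1
  · exact e

theorem exists_fin5 {F : Finset GolayPt} (hF : 5 ≤ F.card) :
    ∃ x : Fin 5 → GolayPt, Function.Injective x ∧ ∀ i, x i ∈ F := by
  obtain ⟨E, hE, hc⟩ := Finset.exists_subset_card_eq hF
  let e : E ≃ Fin 5 := Finset.equivFinOfCardEq hc
  exact ⟨fun i => e.symm i, Subtype.val_injective.comp e.symm.injective, fun i => hE (e.symm i).2⟩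

/-- an element of `M24` fixing a dodecad and five of its points is trivial -/
theorem dodecad_sharp {d : Finset GolayPt} (hd : d ∈ dodecads) {g : Equiv.Perm GolayPt} (hg : g ∈ M24)
    (hgd : g • d = d) {F : Finset GolayPt} (hFd : F ⊆ d) (hF : 5 ≤ F.card) (hf : ∀ p ∈ F, g p = p) : g = 1 := by
  obtain ⟨x, hx, hxF⟩ := exists_fin5 hF
  obtain ⟨k, hk, e0, e⟩ := dtrans5 hd hx fun i => hFd (hxF i)
  have := kchain5 (k * g * k⁻¹) ⟨(conj_mem_M24_iff hk).2 hg, by
    show _ • fs D0 = fs D0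
    rw [← e0, conj_smul_eq_iff, hgd]⟩ (fixes_base5.2 fun i => by rw [← e, conj_apply, hf _ (hxF i)])
  simpa [mul_inv_eq_one] using this

theorem dodecad_trans5 {d : Finset GolayPt} (hd : d ∈ dodecads) {x y : Fin 5 → GolayPt}
    (hx : Function.Injective x) (hxd : ∀ i, x i ∈ d) (hy : Function.Injective y) (hyd : ∀ i, y i ∈ d) :
    ∃ g ∈ M24, g • d = d ∧ ∀ i, g (x i) = y i := by
  obtain ⟨g, hg, e0, e⟩ := dtrans5 hd hx hxd
  obtain ⟨k, hk, e0', e'⟩ := dtrans5 hd hy hyd
  refine ⟨k⁻¹ * g, mul_mem (inv_mem hk) hg, by rw [mul_smul, e0, inv_smul_eq_iff, e0'], fun i => ?_⟩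
  rw [Equiv.Perm.mul_apply, Equiv.Perm.inv_eq_iff_eq, e, e']

/-- the stabilizer of a dodecad and a hexad on it is the symmetric group on the hexad -/
theorem hexad_iso {d : Finset GolayPt} (hd : d ∈ dodecads) {C : Finset GolayPt} (hC : C ∈ hexadsOn d) :
    Nonempty (↥(MulAction.stabilizer M24 d ⊓ MulAction.stabilizer M24 C) ≃* Equiv.Perm (Fin 6)) := by
  obtain ⟨h6, o, ho, hoC⟩ := hC
  have hCd : C ⊆ d := hoC ▸ Finset.inter_subset_right
  have hCo : C ⊆ o := hoC ▸ Finset.inter_subset_left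
  let φ := resHom (M24.subtype.comp (MulAction.stabilizer M24 d ⊓ MulAction.stabilizer M24 C).subtype) C
    fun k => k.2.2
  let e : C ≃ Fin 6 := Finset.equivFinOfCardEq h6
  have hinj : Function.Injective φ := by
    rw [injective_iff_map_eq_one]
    intro k hk
    apply Subtype.ext; apply Subtype.ext
    exact dodecad_sharp hd k.1.2 k.2.1 hCd (by omega) fun p hp =>
      congrArg (fun σ : Equiv.Perm C => (σ ⟨p, hp⟩ : GolayPt)) hk
  have hsurj : Function.Surjective φ := by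
    intro σ
    obtain ⟨g, hg, hgd, hgx⟩ := dodecad_trans5 hd (x := fun i => (e.symm i.castSucc : GolayPt))
      (y := fun i => (σ (e.symm i.castSucc) : GolayPt))
      (Subtype.val_injective.comp (e.symm.injective.comp (Fin.castSucc_injective _))) (fun i => hCd (e.symm _).2)
      (Subtype.val_injective.comp (σ.injective.comp (e.symm.injective.comp (Fin.castSucc_injective _))))
      (fun i => hCd (σ _).2)
    have hgo : g • o = o := smul_octad_eq hg ho ho
      (F := Finset.univ.image fun i : Fin 5 => (e.symm i.castSucc : GolayPt))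
      ((Finset.card_image_of_injective _
        (Subtype.val_injective.comp (e.symm.injective.comp (Fin.castSucc_injective _)))).trans (by simp)).ge
      (by intro p hp; simp at hp; obtain ⟨i, rfl⟩ := hp; exact hCo (e.symm _).2)
      (by intro p hp; simp at hp; obtain ⟨i, rfl⟩ := hp; rw [hgx]; exact hCo (σ _).2)
    have hgC : g • C = C := by rw [← hoC, smul_inter, hgo, hgd]
    refine ⟨⟨⟨g, hg⟩, hgd, hgC⟩, ?_⟩
    set τ := φ ⟨⟨g, hg⟩, hgd, hgC⟩ with hτ
    have h1 : ∀ i : Fin 5, τ (e.symm i.castSucc) = σ (e.symm i.castSucc) := fun i => Subtype.ext (hgx i)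
    have h2 : ∀ j : Fin 6, τ (e.symm j) = σ (e.symm j) := by
      rw [Fin.forall_fin_succ']
      refine ⟨h1, ?_⟩
      obtain ⟨j, hj⟩ := e.symm.surjective (σ.symm (τ (e.symm (Fin.last 5))))
      rcases Fin.eq_castSucc_or_eq_last j with ⟨i, rfl⟩ | rfl
      · have h3 := h1 i
        rw [hj, Equiv.apply_symm_apply, ← hj] at h3
        exact absurd (e.symm.injective (τ.injective h3)) (Fin.castSucc_lt_last i).ne
      · rw [hj, Equiv.apply_symm_apply, ← hj]
    exact Equiv.ext fun p => by simpa using h2 (e p)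
  exact ⟨(MulEquiv.ofBijective φ ⟨hinj, hsurj⟩).trans e.permCongrHom⟩

attribute [irreducible] K1 K2 K3 K4 K5

end CA.Gol
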