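import Cfsg.Agent.Lib.Golay.Code
import Cfsg.Agent.Lib.Golay.Chain

/-!
A stabilizer chain for `M24` with base `23, 0, 1, 2, 3, 4, 5` (index 23 is the extra point); order,
5-transitivity, the Steiner system, coset representatives, two generators.
-/

set_option autoImplicit false

namespace CA.Gol
open Cfsg
open scoped Pointwise

/-- level 1 -/
def L1 : Lev := (23, [(0, 0x5883388a1c8f5140b46cd317aed7),
    (1, 0x89a93bcab24d161c4d57515283017),
    (2, 0x10dca440cc2d120248f67d5738b437),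
    (3, 0x191eb4c4ed355412cd008599493857),
    (4, 0x249e975e368344a9d10309ca05b2a6),
    (5, 0x2ce0a7de408b86ba5524120c1636c7),
    (6, 0x3522b85e6193c8cad9451a4e26b808),
    (7, 0x3910e0d597141a03286f4ca34996cb),
    (8, 0x4152f159b71c5c13ac9054e55a180c),
    (9, 0x49950181d7249e2430b15d276a9c2d),
    (10, 0x51d71205f72ce034b4d265680b204e),
    (11, 0x5be50a2a754a0b78b9a11b04621ec0),
    (12, 0x64271aae96524d793dc2234672a001),
    (13, 0x6c692b32a05a8f79c1e32b88832422),
    (14, 0x74ab3036c162d17a460433ca93a843),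
    (15, 0x7ced40b8026b137aca253c0ca42c64),
    (16, 0x834448d8604994f29e6eab1170d172),
    (17, 0x8b8659008151d703228fb353715593),
    (18, 0x93c86984a25a1913a6b0039571d9b4),
    (19, 0x9a082500d670e3560609795ab3caf4),
    (20, 0xa24a3584e07925668a2a819cc44ef5),
    (21, 0xaa8c4609018166070e4b89ded4d2f6),
    (22, 0xb2ce568d2289a817926c9220e556e0),
    (23, 0xbdab49ca307b9ac5a928398a418820)])
/-- level 2 -/
def L2 : Lev := (0, [(0, 0xbdab49ca307b9ac5a928398a418820),
    (1, 0xb82d5a4e5183dcd62d4941cc520c41),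
    (2, 0xb8416ad2728c1ee6b16a4a0e629062),
    (3, 0xb8820b56939460f7358b5250731483),
    (4, 0xb8c4105ab49ca307b9ac5a928398a4),
    (5, 0xb9062082d5a4e5183dcd62d4941cc5),
    (6, 0xb948310416ad2728c1ee6b16a4a0e6),
    (7, 0xb98a418820b56939460f7358b52507),
    (8, 0xb9cc520c4105ab49ca307b9ac5a928),
    (9, 0xba0e629062082d5a4e5183dcd62d49),
    (10, 0xba5073148310416ad2728c1ee6b16a),
    (11, 0xba928398a418820b56939460f7358b),
    (12, 0xbad4941cc520c4105ab49ca307b9ac),
    (13, 0xbb16a4a0e629062082d5a4e5183dcd),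
    (14, 0xbb58b525073148310416ad2728c1ee),
    (15, 0xbb9ac5a928398a418820b56939460f),
    (16, 0xbbdcd62d4941cc520c4105ab49ca30),
    (17, 0xbc1ee6b16a4a0e629062082d5a4e51),
    (18, 0xbc60f7358b525073148310416ad272),
    (19, 0xbca307b9ac5a928398a418820b5693),
    (20, 0xbce5183dcd62d4941cc520c4105ab4),
    (21, 0xbd2728c1ee6b16a4a0e629062082d5),
    (22, 0xbd6939460f7358b525073148310416)])
/-- level 3 -/
def L3 : Lev := (1, [(1, 0xbdab49ca307b9ac5a928398a418820),
    (2, 0xbd6717b56939461b52507314831040),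
    (3, 0xbd22e5a0a2b4e0d51c81ac9ec49860),
    (4, 0xbcdeb38ed2728c2ac5a92869062080),
    (5, 0xbba337caa412a01321b662ce91d0a0),
    (6, 0xbc565b4144abd23a39029b4e1930c0),
    (7, 0xbb46e450c45d52f816568b02a14ce0),
    (8, 0xbbcf671aad2d1849ac7250a290c100),
    (9, 0xbb8b3505e6a2c503d5838a2cd24920),
    (10, 0xbb2717b5d429ec11a6465d44482140),
    (11, 0xb91d52b2968a9e808cc299e096c960),
    (12, 0xbaecaaa68899e468960478dc268580),
    (13, 0xbaa87891c15d5122bc4cb266680da0),
    (14, 0xb92511ad9051d3514cd67a1a50d1c0),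
    (15, 0xbca2e5a2a79d94d808892d0660b1e0),
    (16, 0xb9dd52b263544287d8cda117212600),
    (17, 0xbc99313d03b50ce494875342b85620),
    (18, 0xb954fa08ec8d88974c265c2a343640),
    (19, 0xbd5d1592861bc2d4b10a916c281e60),
    (20, 0xbaa6c11255884ee82de96a2c331680),
    (21, 0xbc5c3449b3386cf12a9061964496a0),
    (22, 0xba21561d262d04b0cc8a749af1c6c0)])
/-- level 4 -/
def L4 : Lev := (2, [(2, 0xbdab49ca307b9ac5a928398a418820),
    (3, 0xbd20c4b4b3a8968359ea91dc488c20),
    (4, 0xbb0a33d4519b4ca92e8e43ec981020),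
    (5, 0xbc64aa2c8e9a06d4b215358e279420),
    (6, 0xba9d37b2c8ad06489c495c0ad91820),
    (7, 0xbc6059098a43575311f348dd6a1c20),
    (8, 0xbae75734e2a3d8354606b24b222020),
    (9, 0xbc5eea0d669d4923d910508ac6a420),
    (10, 0xb9a33b55ed65064740b259c484a820),
    (11, 0xbd9056188748e2e836af14a8a9ac20),
    (12, 0xbbd2d348b5a42c241dcb2466353020),
    (13, 0xbb8d2410b47a4f0146761aaac5b420),
    (14, 0xba6b191a8829ecb78870511936b820),
    (15, 0xbc2676a6a62d96aa20828c86e63c20),
    (16, 0xb9e8fa914974e4db2cc28a0a364020),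
    (17, 0xba925241ab14ad440dd5332677c420),
    (18, 0xb8ca4b4d07731316aaaf3517014820),
    (19, 0xb9a8a221e22c4f67418958db594c20),
    (20, 0xb89d6642692ad51a9a483b48f1d020),
    (21, 0xba1eb189d02aa279a5a6b325425420),
    (22, 0xb9c456a071331534ca8e811ebad820)])
/-- level 5 -/
def L5 : Lev := (3, [(3, 0xbdab49ca307b9ac5a928398a418820),
    (4, 0xbc58a91e054b466ad1f342ece20820),
    (5, 0xb91155aa3038ecf49a74649cd28820),
    (6, 0xbb46b7266441eca7c994896b030820),
    (7, 0xbc131520c41cdb25b8ac7d2b638820),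
    (8, 0xbd9d48998d4ac93abd471965040820),
    (9, 0xb92271a156351ac9566b715f048820),
    (10, 0xbb4d2ac69642603731653cde450820),
    (11, 0xbc0c39a50d732cfa44aaa9e4458820),
    (12, 0xbd86a29d0d7c8959a6867457060820),
    (13, 0xb8d537ae05359c891eac4d09168820),
    (14, 0xbb68849a30614879c9757a87670820),
    (15, 0xbb66838d36952112ad8ea994478820),
    (16, 0xba2a93b9aba11911a9e534ed280820),
    (17, 0xb9193950b033ac979eaa42c6d88820),
    (18, 0xb9146a450daae0e29e637a59690820),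
    (19, 0xbb62c2d0c4956cf521691b8f098820),
    (20, 0xbc10e619368a89538cb392deda0820),
    (21, 0xbd9895b8c479e032d1519226da8820),
    (22, 0xbba6cad205412297ae4a31da3b0820)])
/-- level 6 -/
def L6 : Lev := (4, [(4, 0xbdab49ca307b9ac5a928398a418820),
    (6, 0xb9e086be3593a6952d94b10a618820),
    (7, 0xbcd69958b5a44c4829ed621c718820),
    (8, 0xbb2ad350abb464f5408999dc818820),
    (9, 0xbbeb23b5ca6169682d0434e2918820),
    (10, 0xba64d4562f83a87312d362caa18820),
    (11, 0xbc8e49a8a884589a59af355cb18820),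
    (12, 0xbca0fb4dcb49507aaa862362c18820),
    (13, 0xb9166425d0996d4554ef9322d18820),
    (15, 0xbd17661a2a23933ac1a7448af18820),
    (16, 0xbd987929cda948f4ccd442e3018820),
    (18, 0xba1474922b3398d85676a3cb218820),
    (19, 0xb9944a31d5694e85c2d27a63318820),
    (20, 0xba613220aa3c5f25d4cc6d9d418820),
    (21, 0xb9d367add3814d263488a2a3518820),
    (22, 0xbb54c79cb044486aae534d1d618820)])
/-- level 7 -/
def L7 : Lev := (5, [(5, 0xbdab49ca307b9ac5a928398a418820),
    (14, 0xbc12ba18ad946c79b11553dc418820),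
    (17, 0xbb5135bdd63160aa1ea964a2418820)])

/-- the levels of the chain of `M24` -/
def Ls24 : List Lev := [L1, L2, L3, L4, L5, L6, L7]

/-- the octad `{∞, 0, 1, 2, 3, 5, 14, 17}` -/
def O0 : ℕ := 0x82402f

theorem O0_mem : fs O0 ∈ octads := fs_mem_octads (by decide +kernel)
theorem O0_lt : O0 < 2 ^ 24 := by decide +kernel

theorem memb24 (c : ℕ) (h : inM24 c = true) : ∃ t ∈ M24, code t = c := ⟨perm c, perm_mem_M24 h, code_perm' h⟩

/-- one round of deducing fixed points -/
def fixRound (F : ℕ) (l : List ℕ) (F' : ℕ) : Bool :=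
  allL l (fun m => Nat.beq (Nat.land F m) m || (isOct m && Nat.ble 5 (popc (Nat.land m F)))) &&
  allLt (fun i => !(tb F' i) || allLt (fun j => Nat.beq j i || anyL l fun m => xor (tb m i) (tb m j)) 24) 24

theorem smul_eq_of_fix {g : Equiv.Perm GolayPt} {s : Finset GolayPt} (h : ∀ p ∈ s, g p = p) : g • s = s := by
  apply Finset.eq_of_subset_of_card_le _ (card_smul g s).ge
  intro q hq
  obtain ⟨p, hp, rfl⟩ := Finset.mem_smul_finset.1 hq
  show g p ∈ s
  rw [h p hp]; exact hp

theorem fixRound_sound {g : Equiv.Perm GolayPt} (hg : g ∈ M24) {F F' : ℕ} {l : List ℕ}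
    (h : fixRound F l F' = true) (hF : ∀ p ∈ fs F, g p = p) : ∀ p ∈ fs F', g p = p := by
  rw [fixRound, Bool.and_eq_true, allL_iff, allLt_iff] at h
  intro p hp
  have h2 := h.2 _ (ix_lt p)
  rw [← pt_ix p, pt_mem_fs (ix_lt p)] at hp
  rw [hp, Bool.not_true, Bool.false_or] at h2
  rw [← pt_ix p]
  refine fix_of_separated (fun m hm => ?_) (ix_lt p) h2
  have h1 := h.1 m hm
  rw [Bool.or_eq_true, Bool.and_eq_true, beq_iff, ble_iff, ← card_fs, fs_land] at h1
  rcases h1 with h1 | h1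
  · apply smul_eq_of_fix
    intro q hq
    rw [← h1, fs_land] at hq
    exact hF q (Finset.mem_inter.1 hq).1
  · refine smul_octad_eq hg (fs_mem_octads h1.1) (fs_mem_octads h1.1) h1.2 Finset.inter_subset_left ?_
    intro q hq
    rw [hF q (Finset.mem_inter.1 hq).2]; exact (Finset.mem_inter.1 hq).1

theorem fix_fs_of_fixes {g : Equiv.Perm GolayPt} {bs : List ℕ} (hf : Fixes g bs) {F : ℕ}
    (h : allLt (fun i => !(tb F i) || memL i bs) 24 = true) : ∀ p ∈ fs F, g p = p := by
  intro p hp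
  have := allLt_iff.1 h _ (ix_lt p)
  rw [← pt_ix p, pt_mem_fs (ix_lt p)] at hp
  rw [hp, Bool.not_true, Bool.false_or, memL_iff] at this
  simpa using hf _ this

theorem chain7 : Chain M24 [5, 4, 3, 2, 1, 0, 23] [] := by
  intro g hg hf
  have h0 := fix_fs_of_fixes hf (F := 0x80003f) (by decide +kernel)
  have h1 := fixRound_sound hg (F' := 0xfdbfff)
    (l := [0x8081b3, 0x843039, 0x84805e, 0x8900bc, 0x98081b, 0xa0031d, 0xb01036, 0xc0063a, 0xc12017, 1, 2, 4, 8, 16, 32, 0x800000]) (by decide +kernel) h0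
  have h2 := fixRound_sound hg (F' := 16777215)
    (l := [0xf210c0, 1, 2, 4, 8, 16, 32, 64, 128, 256, 512, 1024, 2048, 0x1000, 0x2000, 0x8000, 0x10000, 0x40000, 0x80000, 0x100000, 0x200000, 0x400000, 0x800000]) (by decide +kernel) h1
  ext p
  rw [h2 p (by rw [fs_full]; exact Finset.mem_univ p)]; rfl

theorem smul_O0_of_fixes {g : Equiv.Perm GolayPt} (hg : g ∈ M24) (hf : Fixes g [3, 2, 1, 0, 23]) :
    g • fs O0 = fs O0 := by
  have h0 := fix_fs_of_fixes hf (F := 0x80000f) (by decide +kernel)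
  have h1 : fs 0x80000f ⊆ fs O0 := (fs_subset_iff (by norm_num)).2 (by decide +kernel)
  refine smul_octad_eq hg O0_mem O0_mem (F := fs 0x80000f) ?_ h1 fun p hp => by rw [h0 p hp]; exact h1 hp
  rw [card_fs]; decide +kernel

theorem chain6 : Chain M24 [4, 3, 2, 1, 0, 23] [L7] :=
  chain_cons memb24 O0 (by decide +kernel)
    (fun g hg hf => smul_O0_of_fixes hg (fixes_cons.1 hf).2) chain7

theorem chain5 : Chain M24 [3, 2, 1, 0, 23] [L6, L7] :=
  chain_cons memb24 (Nat.xor O0 16777215) (by decide +kernel)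
    (fun g hg hf => by rw [fs_compl, smul_sdiff, smul_univ, smul_O0_of_fixes hg hf]) chain6

theorem chain4 : Chain M24 [2, 1, 0, 23] [L5, L6, L7] :=
  chain_cons memb24 16777215 (by decide +kernel) (fun g _ _ => smul_fs_full g) chain5

theorem chain3 : Chain M24 [1, 0, 23] [L4, L5, L6, L7] :=
  chain_cons memb24 16777215 (by decide +kernel) (fun g _ _ => smul_fs_full g) chain4

theorem chain2 : Chain M24 [0, 23] [L3, L4, L5, L6, L7] :=
  chain_cons memb24 16777215 (by decide +kernel) (fun g _ _ => smul_fs_full g) chain3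

theorem chain1 : Chain M24 [23] [L2, L3, L4, L5, L6, L7] :=
  chain_cons memb24 16777215 (by decide +kernel) (fun g _ _ => smul_fs_full g) chain2

theorem chain0 : Chain M24 [] Ls24 :=
  chain_cons memb24 16777215 (by decide +kernel) (fun g _ _ => smul_fs_full g) chain1

theorem card_M24 : Nat.card M24 = 244823040 := by
  have := chain0.card
  rw [fixer_nil] at this
  rw [this]; decide +kernel

theorem pass24 {ok : List ℕ → Bool} {c : ℕ} : Pass ok Ls24 c [] ↔
    ok [ap c 23] = true ∧ ok [ap c 0, ap c 23] = true ∧ ok [ap c 1, ap c 0, ap c 23] = true ∧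
    ok [ap c 2, ap c 1, ap c 0, ap c 23] = true ∧ ok [ap c 3, ap c 2, ap c 1, ap c 0, ap c 23] = true ∧
    ok [ap c 4, ap c 3, ap c 2, ap c 1, ap c 0, ap c 23] = true ∧
    ok [ap c 5, ap c 4, ap c 3, ap c 2, ap c 1, ap c 0, ap c 23] = true := by
  simp only [Ls24, Pass, and_true]; rfl

/-! ### Multiple transitivity -/

theorem exists_map_level {H : Subgroup (Equiv.Perm GolayPt)} {bs : List ℕ} {L : Lev} {Ls : List Lev}
    (hC : Chain H bs (L :: Ls)) (M : ℕ)
    (h : allLt (fun x => !(tb M x) || memL x bs || memL x (L.2.map Prod.fst)) 24 = true)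
    (p : GolayPt) (hM : p ∈ fs M) (hp : ∀ b ∈ bs, p ≠ pt b) : ∃ t ∈ H, Fixes t bs ∧ t p = pt L.1 := by
  have := allLt_iff.1 h _ (ix_lt p)
  rw [← pt_ix p, pt_mem_fs (ix_lt p)] at hM
  simp only [hM, Bool.not_true, Bool.false_or, Bool.or_eq_true, memL_iff] at this
  rcases this with h1 | h1
  · exact absurd (pt_ix p).symm (hp _ h1)
  · obtain ⟨t, ht, hf, e⟩ := hC.exists_map h1
    refine ⟨t⁻¹, H.inv_mem ht, hf.inv, ?_⟩
    rw [Equiv.Perm.inv_eq_iff_eq, e, pt_ix]

theorem mem_fs_full (p : GolayPt) : p ∈ fs 16777215 := by rw [fs_full]; exact Finset.mem_univ p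

theorem trans1 (a : GolayPt) : ∃ g ∈ M24, g a = pt 23 := by
  obtain ⟨t, ht, _, e⟩ := exists_map_level chain0 16777215 (by decide +kernel) a (mem_fs_full _) (by simp)
  exact ⟨t, ht, e⟩

theorem trans2 {a b : GolayPt} (hab : a ≠ b) : ∃ g ∈ M24, g a = pt 23 ∧ g b = pt 0 := by
  obtain ⟨g, hg, e1⟩ := trans1 a
  obtain ⟨t, ht, hf, e⟩ := exists_map_level chain1 16777215 (by decide +kernel) (g b) (mem_fs_full _)
    (by simp only [List.mem_singleton, forall_eq, ← e1]; exact g.injective.ne hab.symm)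
  simp only [fixes_cons] at hf
  exact ⟨t * g, mul_mem ht hg, by rw [Equiv.Perm.mul_apply, e1, hf.1], e⟩

theorem trans3 {a b c : GolayPt} (hab : a ≠ b) (hac : a ≠ c) (hbc : b ≠ c) :
    ∃ g ∈ M24, g a = pt 23 ∧ g b = pt 0 ∧ g c = pt 1 := by
  obtain ⟨g, hg, e1, e2⟩ := trans2 hab
  obtain ⟨t, ht, hf, e⟩ := exists_map_level chain2 16777215 (by decide +kernel) (g c) (mem_fs_full _)
    (by simp only [List.mem_cons, List.not_mem_nil, or_false, forall_eq_or_imp, forall_eq, ← e1, ← e2]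
        exact ⟨g.injective.ne hbc.symm, g.injective.ne hac.symm⟩)
  simp only [fixes_cons] at hf
  exact ⟨t * g, mul_mem ht hg, by rw [Equiv.Perm.mul_apply, e1, hf.2.1], by rw [Equiv.Perm.mul_apply, e2, hf.1], e⟩

theorem trans4 {a b c d : GolayPt} (hab : a ≠ b) (hac : a ≠ c) (hbc : b ≠ c) (had : a ≠ d) (hbd : b ≠ d)
    (hcd : c ≠ d) : ∃ g ∈ M24, g a = pt 23 ∧ g b = pt 0 ∧ g c = pt 1 ∧ g d = pt 2 := by
  obtain ⟨g, hg, e1, e2, e3⟩ := trans3 hab hac hbc
  obtain ⟨t, ht, hf, e⟩ := exists_map_level chain3 16777215 (by decide +kernel) (g d) (mem_fs_full _)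
    (by simp only [List.mem_cons, List.not_mem_nil, or_false, forall_eq_or_imp, forall_eq, ← e1, ← e2, ← e3]
        exact ⟨g.injective.ne hcd.symm, g.injective.ne hbd.symm, g.injective.ne had.symm⟩)
  simp only [fixes_cons] at hf
  exact ⟨t * g, mul_mem ht hg, by rw [Equiv.Perm.mul_apply, e1, hf.2.2.1],
    by rw [Equiv.Perm.mul_apply, e2, hf.2.1], by rw [Equiv.Perm.mul_apply, e3, hf.1], e⟩

theorem trans5 {a b c d e : GolayPt} (hab : a ≠ b) (hac : a ≠ c) (hbc : b ≠ c) (had : a ≠ d) (hbd : b ≠ d)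
    (hcd : c ≠ d) (hae : a ≠ e) (hbe : b ≠ e) (hce : c ≠ e) (hde : d ≠ e) :
    ∃ g ∈ M24, g a = pt 23 ∧ g b = pt 0 ∧ g c = pt 1 ∧ g d = pt 2 ∧ g e = pt 3 := by
  obtain ⟨g, hg, e1, e2, e3, e4⟩ := trans4 hab hac hbc had hbd hcd
  obtain ⟨t, ht, hf, e'⟩ := exists_map_level chain4 16777215 (by decide +kernel) (g e) (mem_fs_full _)
    (by simp only [List.mem_cons, List.not_mem_nil, or_false, forall_eq_or_imp, forall_eq, ← e1, ← e2, ← e3, ← e4]
        exact ⟨g.injective.ne hde.symm, g.injective.ne hce.symm, g.injective.ne hbe.symm, g.injective.ne hae.symm⟩)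
  simp only [fixes_cons] at hf
  exact ⟨t * g, mul_mem ht hg, by rw [Equiv.Perm.mul_apply, e1, hf.2.2.2.1],
    by rw [Equiv.Perm.mul_apply, e2, hf.2.2.1], by rw [Equiv.Perm.mul_apply, e3, hf.2.1],
    by rw [Equiv.Perm.mul_apply, e4, hf.1], e'⟩

/-- the base points as a function on `Fin 5` -/
def base5 : Fin 5 → GolayPt := ![pt 23, pt 0, pt 1, pt 2, pt 3]

theorem base5_injective : Function.Injective base5 := by decide

theorem base5_mem (i : Fin 5) : base5 i ∈ fs O0 := by revert i; decide +kernel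

theorem trans_fin5 {x : Fin 5 → GolayPt} (hx : Function.Injective x) : ∃ g ∈ M24, ∀ i, g (x i) = base5 i := by
  obtain ⟨g, hg, h0, h1, h2, h3, h4⟩ := trans5 (a := x 0) (b := x 1) (c := x 2) (d := x 3) (e := x 4)
    (hx.ne (by decide)) (hx.ne (by decide)) (hx.ne (by decide)) (hx.ne (by decide)) (hx.ne (by decide))
    (hx.ne (by decide)) (hx.ne (by decide)) (hx.ne (by decide)) (hx.ne (by decide)) (hx.ne (by decide))
  refine ⟨g, hg, fun i => ?_⟩
  fin_cases i
  exacts [h0, h1, h2, h3, h4]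

theorem exists_fin_ext {k n : ℕ} (hk : k ≤ n) (hn : n ≤ 24) {x : Fin k → GolayPt} (hx : Function.Injective x) :
    ∃ y : Fin n → GolayPt, Function.Injective y ∧ ∀ i, y (Fin.castLE hk i) = x i := by
  obtain ⟨e, he⟩ := Equiv.Perm.exists_extending_pair (f := x)
    (g := fun i : Fin k => ptEquiv.symm (Fin.castLE (hk.trans hn) i)) hx
    (ptEquiv.symm.injective.comp (Fin.castLE_injective _))
  refine ⟨fun j => e.symm (ptEquiv.symm (Fin.castLE hn j)),
    e.symm.injective.comp (ptEquiv.symm.injective.comp (Fin.castLE_injective _)), fun i => ?_⟩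
  rw [Equiv.symm_apply_eq, he]; rfl

/-- 5-fold transitivity for injective tuples indexed by any type with at most five elements -/
theorem trans_tuple {ι : Type*} [Fintype ι] (hι : Fintype.card ι ≤ 5) {x y : ι → GolayPt}
    (hx : Function.Injective x) (hy : Function.Injective y) : ∃ g ∈ M24, ∀ i, g (x i) = y i := by
  let e := Fintype.equivFin ι
  obtain ⟨x', hx', ex⟩ := exists_fin_ext hι (by norm_num) (hx.comp e.symm.injective)
  obtain ⟨y', hy', ey⟩ := exists_fin_ext hι (by norm_num) (hy.comp e.symm.injective)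
  obtain ⟨g, hg, h1⟩ := trans_fin5 hx'
  obtain ⟨k, hk, h2⟩ := trans_fin5 hy'
  refine ⟨k⁻¹ * g, mul_mem (inv_mem hk) hg, fun i => ?_⟩
  have e1 := ex (e i)
  have e2 := ey (e i)
  simp only [Function.comp, Equiv.symm_apply_apply] at e1 e2
  rw [Equiv.Perm.mul_apply, Equiv.Perm.inv_eq_iff_eq, ← e1, ← e2, h1, h2]

/-- an injective map on a set of at most five points is induced by an element of `M24` -/
theorem exists_extend {s : Finset GolayPt} (hs : s.card ≤ 5) {f : GolayPt → GolayPt} (hf : Set.InjOn f s) :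
    ∃ g ∈ M24, ∀ p ∈ s, g p = f p := by
  obtain ⟨g, hg, h⟩ := trans_tuple (ι := s) (by simpa using hs) (x := fun p => p) (y := fun p => f p)
    Subtype.val_injective (fun p q e => Subtype.ext (hf p.2 q.2 e))
  exact ⟨g, hg, fun p hp => h ⟨p, hp⟩⟩

theorem exists_smul_eq {s t : Finset GolayPt} (hs : s.card ≤ 5) (hst : s.card = t.card) :
    ∃ g ∈ M24, g • s = t := by
  let e : s ≃ t := Finset.equivOfCardEq hst
  obtain ⟨g, hg, h⟩ := trans_tuple (ι := s) (by simpa using hs) (x := fun p => p) (y := fun p => e p)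
    Subtype.val_injective (Subtype.val_injective.comp e.injective)
  refine ⟨g, hg, Finset.eq_of_subset_of_card_le ?_ (by rw [card_smul, hst])⟩
  intro q hq
  obtain ⟨p, hp, rfl⟩ := Finset.mem_smul_finset.1 hq
  have := h ⟨p, hp⟩
  show g p ∈ t
  rw [this]; exact (e _).2

/-- fix up to four points and move one further point anywhere outside -/
theorem exists_fix_move {s : Finset GolayPt} (hs : s.card ≤ 4) {a b : GolayPt} (ha : a ∉ s) (hb : b ∉ s) :
    ∃ g ∈ M24, (∀ p ∈ s, g p = p) ∧ g a = b := by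
  obtain ⟨g, hg, h⟩ := exists_extend (s := insert a s) (by rw [Finset.card_insert_of_notMem ha]; omega)
    (f := Equiv.swap a b) (Equiv.injective _).injOn
  refine ⟨g, hg, fun p hp => ?_, by rw [h a (Finset.mem_insert_self _ _), Equiv.swap_apply_left]⟩
  rw [h p (Finset.mem_insert_of_mem hp), Equiv.swap_apply_of_ne_of_ne]
  · rintro rfl; exact ha hp
  · rintro rfl; exact hb hp

/-! ### The Steiner system -/

theorem exists_octad_superset {s : Finset GolayPt} (hs : s.card ≤ 5) : ∃ o ∈ octads, s ⊆ o := by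
  obtain ⟨t, ht, hc⟩ := Finset.exists_subset_card_eq (s := fs O0) (n := s.card) (by rw [O0_mem.2]; omega)
  obtain ⟨g, hg, e⟩ := exists_smul_eq (s := t) (t := s) (by omega) hc
  exact ⟨g • fs O0, smul_mem_octads hg O0_mem, by rw [← e]; exact Finset.smul_finset_subset_smul_finset ht⟩

theorem octad_trans {o o' : Finset GolayPt} (ho : o ∈ octads) (ho' : o' ∈ octads) : ∃ g ∈ M24, g • o = o' := by
  obtain ⟨t, ht, hc⟩ := Finset.exists_subset_card_eq (s := o) (n := 5) (by rw [ho.2]; omega)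
  obtain ⟨t', ht', hc'⟩ := Finset.exists_subset_card_eq (s := o') (n := 5) (by rw [ho'.2]; omega)
  obtain ⟨g, hg, e⟩ := exists_smul_eq (s := t) (t := t') hc.le (hc.trans hc'.symm)
  refine ⟨g, hg, smul_octad_eq hg ho ho' hc.ge ht fun p hp => ht' ?_⟩
  rw [← e]; exact apply_mem_smul.2 hp

theorem steiner_octads : IsSteinerSystem 5 8 octads := by
  refine ⟨fun b hb => hb.2, fun s hs => ?_⟩
  obtain ⟨o, ho, h⟩ := exists_octad_superset hs.le
  refine ⟨o, ⟨ho, h⟩, fun o' ho' => octad_eq ho'.1 ho ?_⟩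
  rw [← hs]; exact Finset.card_le_card (Finset.subset_inter ho'.2 h)

/-- every set is congruent modulo the code to a set of at most four points -/
theorem exists_small_rep (s : Finset GolayPt) : ∃ u : Finset GolayPt, u.card ≤ 4 ∧ symmDiff s u ∈ CW := by
  induction h : s.card using Nat.strong_induction_on generalizing s with
  | _ n ih =>
    by_cases hn : n ≤ 4
    · exact ⟨s, by omega, by rw [symmDiff_self]; exact empty_mem_CW⟩
    · obtain ⟨t, ht, hc⟩ := Finset.exists_subset_card_eq (s := s) (n := 5) (by omega)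
      obtain ⟨o, ho, h2⟩ := exists_octad_superset hc.le
      have h3 := card_symmDiff_add s o
      have h4 : 5 ≤ (s ∩ o).card := hc ▸ Finset.card_le_card (Finset.subset_inter ht h2)
      rw [ho.2] at h3
      obtain ⟨u, hu, h5⟩ := ih _ (by omega) (symmDiff s o) rfl
      refine ⟨u, hu, ?_⟩
      have := symmDiff_mem_CW h5 ho.1
      rwa [symmDiff_right_comm, symmDiff_symmDiff_cancel_right] at this

/-- the code is generated by the octads -/
theorem CW_octad_induction {P : Finset GolayPt → Prop} (h0 : P ∅) (hs : ∀ s t, P s → P t → P (symmDiff s t))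
    (hT : ∀ o ∈ octads, P o) {s : Finset GolayPt} (h : s ∈ CW) : P s := by
  induction hn : s.card using Nat.strong_induction_on generalizing s with
  | _ n ih =>
    by_cases hn : n ≤ 4
    · have := card_CW h
      rw [Finset.card_eq_zero.1 (by omega : s.card = 0)]; exact h0
    · obtain ⟨t, ht, hc⟩ := Finset.exists_subset_card_eq (s := s) (n := 5) (by omega)
      obtain ⟨o, ho, h2⟩ := exists_octad_superset hc.le
      have h3 := card_symmDiff_add s o
      have h4 : 5 ≤ (s ∩ o).card := hc ▸ Finset.card_le_card (Finset.subset_inter ht h2)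
      rw [ho.2] at h3
      have := hs _ _ (ih _ (by omega) (symmDiff_mem_CW h ho.1) rfl) (hT o ho)
      rwa [symmDiff_symmDiff_cancel_right] at this

/-! ### Two generators -/

/-- first generator -/
def genA : ℕ := 0xb89a580e75945742382702146b258f
/-- second generator -/
def genB : ℕ := 0x28379452b8188f43a65a099638ead

theorem genA_in : inM24 genA = true := by decide +kernel
theorem genB_in : inM24 genB = true := by decide +kernel

/-- every transversal element is one of the listed words -/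
def wordsOK (a b : ℕ) (Ls : List Lev) (ws : List (List ℕ)) : Bool :=
  Nat.beq Ls.length ws.length && allL (Ls.zip ws) fun p => Nat.beq p.1.2.length p.2.length &&
    allL (p.1.2.zip p.2) fun q => Nat.beq (word2 a b 64 q.2 oneC) q.1.2

theorem le_closure_of_words {H : Subgroup (Equiv.Perm GolayPt)} {bs : List ℕ} {Ls : List Lev}
    (hC : Chain H bs Ls) {a b : Equiv.Perm GolayPt} {ws : List (List ℕ)}
    (h : wordsOK (code a) (code b) Ls ws = true) : fixer H bs ≤ Subgroup.closure {a, b} := by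
  apply hC.le_of_transversals
  simp only [wordsOK, Bool.and_eq_true, beq_iff, allL_iff] at h
  intro L hL e he
  obtain ⟨i, hi, rfl⟩ := List.getElem_of_mem hL
  have h1 := h.2 (Ls[i], ws[i]'(h.1 ▸ hi)) (by
    rw [List.mem_iff_getElem]; exact ⟨i, by simp [← h.1, hi], by simp⟩)
  obtain ⟨j, hj, rfl⟩ := List.getElem_of_mem he
  have h2 := h1.2 (Ls[i].2[j], (ws[i]'(h.1 ▸ hi))[j]'(h1.1 ▸ hj)) (by
    rw [List.mem_iff_getElem]; exact ⟨j, by simp only [List.length_zip, ← h1.1, min_self]; exact hj, by simp⟩)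
  obtain ⟨k, hk, e⟩ := word2_mem (K := Subgroup.closure {a, b}) (a := a) (b := b)
    (Subgroup.subset_closure (by simp)) (Subgroup.subset_closure (by simp)) 64
    ((ws[i]'(h.1 ▸ hi))[j]'(h1.1 ▸ hj)) (one_mem _)
  exact ⟨k, hk, by rw [e, code_one]; exact h2⟩

theorem M24_le_closure : M24 ≤ Subgroup.closure {perm genA, perm genB} := by
  have := le_closure_of_words chain0 (a := perm genA) (b := perm genB) (ws :=
    [[0x20d2d2f, 0x13804fe0, 0x1cdb4b6, 0x33978e0, 0x1ece32bb, 0x1a88ca66, 0x147a48c0, 0x18210b13, 0x1b241808, 0xb0c2c1, 0x373de50, 0x3e4befa, 0xd47f943, 0x3d15446, 0x1c53070b, 0x1fcd58c2, 0xc3ea0fe, 0x6938789, 0x3a40cef, 0xdad2092, 0x68d2b67, 0x174fb3bc, 0x10c28424, 1],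
    [1, 0xe1c4962, 0x9eddfac, 0x13cbab7b, 0xc5411c9, 0xe0a5f37, 0x1c51917c, 0x572c273, 0x4bda5ce, 0x1efe1254, 0x3a261afd, 0x9e5c933, 0x1454d0eb, 0x136c7910, 0x1f7709b8, 0x104d2c, 0xd9a00f8, 0x3cbfe41, 0x3078c82, 0xb9eea43, 0x4f125ca, 0x2ab94d15, 0x2562553c],
    [1, 0x9fea39c, 0x41dde59, 0x4726bca, 0x58373b1, 0xd23e735, 0x9293922, 0x5caae1b, 0xb1de3b2, 0x64262b14, 0xbfc1774, 0xade832b, 0x2aff4089, 0x3860600c, 0x7dd428b, 0x8eeac, 0x19383b2a, 0x1c0a7cb8, 0x36661b62, 0x4f5d2e7, 0x1eceafa6, 0xdbacd9f],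
    [1, 0x3f386a5e, 0x17e5ec3, 0x175fbf7c, 0x1e3d5f54, 0x13137aa, 0x1dd66336, 0x1ec042d, 0x15ce6a0c, 0x1d961edf, 0x9e3247, 0x589cf8b0, 0x1f6dd06, 0x4777631, 0x151cc3c, 0xac1a1bb, 0x5814ffe, 0x96b081e, 0x55b4892, 0xf684bc4, 0x19ea479],
    [1, 0x6511e20, 0x3a7b3a30, 0x114ebb79, 0x1b689ed, 0xf5e30a6, 0x869f95, 0x96f125b, 0x1247839c, 0xcd00afd, 0x1a7959a, 0x8551edc, 0x62fe094, 0x44c97ff, 0xda6c17, 0x1863d873, 0x70a5a13, 0x12a66a30, 0x6ce39c8, 0xb141b6e],
    [1, 0xf90410, 0x956116f, 0x343d417c, 0x2a2117aa, 0xa438504, 0x79c53a90, 0x2b86383, 0x16154fec, 0x17692b88, 0xbe87497, 0x52686d8, 0x21082250, 0x9fbf504, 0xc196060, 0x17d82236],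
    [1, 0x5ae248c, 0xb4b924a]])
    (by rw [code_perm' genA_in, code_perm' genB_in]; decide +kernel)
  rwa [fixer_nil] at this

/-- a finite set stable under the two generators is stable under `M24` -/
theorem smul_mem_of_gens {X : Type*} [MulAction (Equiv.Perm GolayPt) X] {S : Set X} (hS : S.Finite)
    (hA : ∀ x ∈ S, perm genA • x ∈ S) (hB : ∀ x ∈ S, perm genB • x ∈ S) {g : Equiv.Perm GolayPt} (hg : g ∈ M24)
    {x : X} (hx : x ∈ S) : g • x ∈ S := by
  have key : ∀ a : Equiv.Perm GolayPt, (∀ x ∈ S, a • x ∈ S) → a ∈ MulAction.stabilizer (Equiv.Perm GolayPt) S := by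
    intro a ha
    show a • S = S
    apply Set.eq_of_subset_of_ncard_le _ _ hS
    · rintro _ ⟨s, hs, rfl⟩; exact ha s hs
    · rw [Set.ncard_smul_set]
  have h1 : Subgroup.closure {perm genA, perm genB} ≤ MulAction.stabilizer (Equiv.Perm GolayPt) S := by
    rw [Subgroup.closure_le]
    rintro a (rfl | rfl)
    · exact key _ hA
    · exact key _ hB
  have h2 : g • S = S := h1 (M24_le_closure hg)
  rw [← h2]; exact Set.smul_mem_smul_set hx

attribute [irreducible] L1 L2 L3 L4 L5 L6 L7 genA genB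

end CA.Gol
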