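import Cfsg.Agent.Lib.Golay.M24

/-!
Six- and seven-point configurations, conjugation transport, restriction homomorphisms.
-/

set_option autoImplicit false

namespace CA.Gol
open Cfsg
open scoped Pointwise

theorem ncard_conj {k : Equiv.Perm GolayPt} {S T : Set (Equiv.Perm GolayPt)}
    (h : ∀ g, g ∈ S ↔ k * g * k⁻¹ ∈ T) : S.ncard = T.ncard := by
  apply Set.ncard_congr (fun g _ => k * g * k⁻¹)
  · intro g hg; exact (h g).1 hg
  · intro a b _ _ e; simpa using e
  · intro b hb
    exact ⟨k⁻¹ * b * k, (h _).2 (by simpa [mul_assoc] using hb), by group⟩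

theorem conj_mem_M24_iff {k g : Equiv.Perm GolayPt} (hk : k ∈ M24) : k * g * k⁻¹ ∈ M24 ↔ g ∈ M24 :=
  ⟨fun h => by simpa [mul_assoc] using mul_mem (mul_mem (inv_mem hk) h) hk,
    fun h => mul_mem (mul_mem hk h) (inv_mem hk)⟩

theorem conj_apply (k g : Equiv.Perm GolayPt) (p : GolayPt) : (k * g * k⁻¹) (k p) = k (g p) := by simp

theorem conj_fix_iff {k g : Equiv.Perm GolayPt} {s : Finset GolayPt} :
    (∀ p ∈ k • s, (k * g * k⁻¹) p = p) ↔ ∀ p ∈ s, g p = p := by
  constructor
  · intro h p hp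
    have := h (k p) (apply_mem_smul.2 hp)
    rw [conj_apply] at this
    exact k.injective this
  · intro h q hq
    obtain ⟨p, hp, rfl⟩ := Finset.mem_smul_finset.1 hq
    show (k * g * k⁻¹) (k p) = k p
    rw [conj_apply, h p hp]

theorem conj_smul_eq_iff {X : Type*} [MulAction (Equiv.Perm GolayPt) X] {k g : Equiv.Perm GolayPt} {x y : X} :
    (k * g * k⁻¹) • k • x = k • y ↔ g • x = y := by
  rw [smul_smul, inv_mul_cancel_right, mul_smul, smul_left_cancel_iff]

/-- pointwise stabilizers of conjugate sets have the same order -/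
theorem ncard_fix_smul {k : Equiv.Perm GolayPt} (hk : k ∈ M24) (s : Finset GolayPt) :
    {g | g ∈ M24 ∧ ∀ p ∈ s, g p = p}.ncard = {g | g ∈ M24 ∧ ∀ p ∈ k • s, g p = p}.ncard :=
  ncard_conj (k := k) fun g => by
    simp only [Set.mem_ofPred_eq, conj_mem_M24_iff hk, conj_fix_iff]

theorem fixes_base5 {g : Equiv.Perm GolayPt} : Fixes g [3, 2, 1, 0, 23] ↔ ∀ i, g (base5 i) = base5 i := by
  simp only [fixes_cons, Fin.forall_fin_succ, base5, fixes_nil]
  simp only [Matrix.cons_val_zero, Matrix.cons_val_succ, and_true, IsEmpty.forall_iff]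
  tauto

theorem move_out {p : GolayPt} (hp : p ∉ fs O0) : ∃ t ∈ M24, Fixes t [3, 2, 1, 0, 23] ∧ t p = pt 4 := by
  have := exists_map_level chain5 (Nat.xor O0 16777215) (by decide +kernel) p (by rw [fs_compl]; simpa using hp)
    (by
      intro b hb e
      apply hp
      rw [e]
      clear e
      revert b
      decide +kernel)
  have e : L6.1 = 4 := by decide +kernel
  rwa [e] at this

theorem move_in {p : GolayPt} (hp : p ∈ fs O0) (h : ∀ i, p ≠ base5 i) :
    ∃ t ∈ M24, Fixes t [4, 3, 2, 1, 0, 23] ∧ t p = pt 5 := by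
  have := exists_map_level chain6 O0 (by decide +kernel) p hp
    (by
      intro b hb
      simp only [List.mem_cons, List.not_mem_nil, or_false] at hb
      rcases hb with rfl | rfl | rfl | rfl | rfl | rfl
      · rintro rfl; revert hp; decide +kernel
      exacts [h 4, h 3, h 2, h 1, h 0])
  have e : L7.1 = 5 := by decide +kernel
  rwa [e] at this

/-- normal form of five points and a sixth -/
theorem six_normal {x : Fin 5 → GolayPt} (hx : Function.Injective x) {z : GolayPt} (hz : ∀ i, z ≠ x i) :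
    ∃ g ∈ M24, (∀ i, g (x i) = base5 i) ∧
      (((∃ o ∈ octads, (∀ i, x i ∈ o) ∧ z ∈ o) ∧ g z = pt 5) ∨
       ((¬ ∃ o ∈ octads, (∀ i, x i ∈ o) ∧ z ∈ o) ∧ g z = pt 4)) := by
  obtain ⟨g, hg, h⟩ := trans_fin5 hx
  by_cases hp : g z ∈ fs O0
  · obtain ⟨t, ht, hf, e⟩ := move_in hp (fun i e => hz i (g.injective (by rw [e, h])))
    refine ⟨t * g, mul_mem ht hg, fun i => ?_, Or.inl ⟨⟨g⁻¹ • fs O0, smul_mem_octads (inv_mem hg) O0_mem,
      fun i => ?_, ?_⟩, e⟩⟩
    · rw [Equiv.Perm.mul_apply, h, fixes_base5.1 (fixes_cons.1 hf).2]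
    · rw [mem_smul_iff, inv_inv, h]; exact base5_mem i
    · rw [mem_smul_iff, inv_inv]; exact hp
  · obtain ⟨t, ht, hf, e⟩ := move_out hp
    refine ⟨t * g, mul_mem ht hg, fun i => ?_, Or.inr ⟨?_, e⟩⟩
    · rw [Equiv.Perm.mul_apply, h, fixes_base5.1 hf]
    · rintro ⟨o, ho, h1, h2⟩
      apply hp
      rw [← smul_octad_eq hg ho O0_mem (F := Finset.univ.image x)
        (by rw [Finset.card_image_of_injective _ hx]; simp) (by intro p hp; simp at hp; obtain ⟨i, rfl⟩ := hp; exact h1 i)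
        (by intro p hp; simp at hp; obtain ⟨i, rfl⟩ := hp; rw [h]; exact base5_mem i)]
      exact apply_mem_smul.2 h2

/-- transitivity on six-tuples of the same type -/
theorem trans_six {x y : Fin 6 → GolayPt} (hx : Function.Injective x) (hy : Function.Injective y)
    (h : (∃ o ∈ octads, ∀ i, x i ∈ o) ↔ ∃ o ∈ octads, ∀ i, y i ∈ o) : ∃ g ∈ M24, ∀ i, g (x i) = y i := by
  obtain ⟨g, hg, h1, h2⟩ := six_normal (x := fun i => x i.castSucc) (hx.comp (Fin.castSucc_injective _))
    (z := x (Fin.last 5)) (fun i => hx.ne (Fin.castSucc_lt_last i).ne')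
  obtain ⟨k, hk, h3, h4⟩ := six_normal (x := fun i => y i.castSucc) (hy.comp (Fin.castSucc_injective _))
    (z := y (Fin.last 5)) (fun i => hy.ne (Fin.castSucc_lt_last i).ne')
  have key : ∀ (x : Fin 6 → GolayPt) (o : Finset GolayPt),
      ((∀ i : Fin 5, x i.castSucc ∈ o) ∧ x (Fin.last 5) ∈ o) ↔ ∀ i, x i ∈ o :=
    fun x o => (Fin.forall_fin_succ' (P := fun i => x i ∈ o)).symm
  simp only [key] at h2 h4
  refine ⟨k⁻¹ * g, mul_mem (inv_mem hk) hg, ?_⟩
  rw [Fin.forall_fin_succ']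
  simp only [Equiv.Perm.mul_apply, Equiv.Perm.inv_eq_iff_eq]
  refine ⟨fun i => by rw [h1, h3], ?_⟩
  rcases h2 with h2 | h2 <;> rcases h4 with h4 | h4
  · rw [h2.2, h4.2]
  · exact absurd (h.1 h2.1) h4.1
  · exact absurd (h.2 h4.1) h2.1
  · rw [h2.2, h4.2]

theorem exists_smul_eq_six {s t : Finset GolayPt} (hs : s.card = 6) (ht : t.card = 6)
    (h : (∃ o ∈ octads, s ⊆ o) ↔ ∃ o ∈ octads, t ⊆ o) : ∃ g ∈ M24, g • s = t := by
  let e : s ≃ Fin 6 := Finset.equivFinOfCardEq hs
  let e' : t ≃ Fin 6 := Finset.equivFinOfCardEq ht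
  have key : ∀ (u : Finset GolayPt) (f : u ≃ Fin 6) (o : Finset GolayPt),
      (∀ i, ((f.symm i : u) : GolayPt) ∈ o) ↔ u ⊆ o := fun u f o =>
    ⟨fun h p hp => by simpa using h (f ⟨p, hp⟩), fun h i => h (f.symm i).2⟩
  obtain ⟨g, hg, h1⟩ := trans_six (x := fun i => (e.symm i : GolayPt)) (y := fun i => (e'.symm i : GolayPt))
    (Subtype.val_injective.comp e.symm.injective) (Subtype.val_injective.comp e'.symm.injective)
    (by simp only [key]; exact h)
  refine ⟨g, hg, Finset.eq_of_subset_of_card_le ?_ (by rw [card_smul, hs, ht])⟩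
  intro q hq
  obtain ⟨p, hp, rfl⟩ := Finset.mem_smul_finset.1 hq
  have := h1 (e ⟨p, hp⟩)
  simp only [Equiv.symm_apply_apply] at this
  show g p ∈ t
  rw [this]; exact (e'.symm _).2

/-- every permutation of a six-set is induced -/
theorem exists_induce_six {E : Finset GolayPt} (hE : E.card = 6) (σ : Equiv.Perm E) :
    ∃ g ∈ M24, ∀ p : E, g p = σ p := by
  let e : E ≃ Fin 6 := Finset.equivFinOfCardEq hE
  obtain ⟨g, hg, h1⟩ := trans_six (x := fun i => (e.symm i : GolayPt)) (y := fun i => (σ (e.symm i) : GolayPt))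
    (Subtype.val_injective.comp e.symm.injective)
    (Subtype.val_injective.comp (σ.injective.comp e.symm.injective))
    (by
      constructor
      · rintro ⟨o, ho, h⟩
        exact ⟨o, ho, fun i => by simpa using h (e (σ (e.symm i)))⟩
      · rintro ⟨o, ho, h⟩
        exact ⟨o, ho, fun i => by simpa using h (e (σ.symm (e.symm i)))⟩)
  exact ⟨g, hg, fun p => by simpa using h1 (e p)⟩

theorem fix_fs_iff {g : Equiv.Perm GolayPt} {F : ℕ} (hF : F < 2 ^ 24) :
    (∀ p ∈ fs F, g p = p) ↔ Nat.land F (fixM (code g)) = F := by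
  rw [← fs_subset_iff hF, fs_fixM]
  exact ⟨fun h p hp => by simpa using h p hp, fun h p hp => by simpa using h hp⟩

theorem fixes_of_fix_fs {g : Equiv.Perm GolayPt} {F : ℕ} (h : ∀ p ∈ fs F, g p = p) {bs : List ℕ}
    (hb : allL bs (fun b => Nat.blt b 24 && tb F b) = true) : Fixes g bs := by
  intro b hb'
  have := allL_iff.1 hb b hb'
  rw [Bool.and_eq_true, blt_iff] at this
  exact h _ ((pt_mem_fs this.1).2 this.2)

theorem ncard_fix_six_in {E : Finset GolayPt} (hE : E.card = 6) (h : ∃ o ∈ octads, E ⊆ o) :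
    {g | g ∈ M24 ∧ ∀ p ∈ E, g p = p}.ncard = 16 := by
  obtain ⟨k, hk, e⟩ := exists_smul_eq_six (t := fs 0x80002f) hE (by rw [card_fs]; decide +kernel)
    (iff_of_true h ⟨_, O0_mem, (fs_subset_iff (by norm_num)).2 (by decide +kernel)⟩)
  rw [ncard_fix_smul hk, e, chain5.card_eq_searchCount (fun _ => true)
    (fun c => Nat.beq (Nat.land 0x80002f (fixM c)) 0x80002f)]
  · decide +kernel
  · rintro g ⟨hg, hf⟩
    exact ⟨hg, fixes_of_fix_fs hf (by decide +kernel), pass_true _ _ _,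
      beq_iff.2 ((fix_fs_iff (by norm_num)).1 hf)⟩
  · intro g hg _ hl
    exact ⟨hg, (fix_fs_iff (by norm_num)).2 (beq_iff.1 hl)⟩

theorem not_in_octad_E1 : ¬ ∃ o ∈ octads, fs 0x80001f ⊆ o := by
  rintro ⟨o, ho, h⟩
  have h1 : fs 0x80000f ⊆ fs 0x80001f := (fs_subset_iff (by norm_num)).2 (by decide +kernel)
  have h2 : fs 0x80000f ⊆ fs O0 := (fs_subset_iff (by norm_num)).2 (by decide +kernel)
  have h3 : o = fs O0 := octad_eq ho O0_mem (le_trans (by rw [card_fs]; decide +kernel)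
    (Finset.card_le_card (Finset.subset_inter (h1.trans h) h2)))
  rw [h3, fs_subset_iff (by norm_num)] at h
  revert h; decide +kernel

theorem ncard_fix_six_out {E : Finset GolayPt} (hE : E.card = 6) (h : ¬ ∃ o ∈ octads, E ⊆ o) :
    {g | g ∈ M24 ∧ ∀ p ∈ E, g p = p}.ncard = 3 := by
  obtain ⟨k, hk, e⟩ := exists_smul_eq_six (t := fs 0x80001f) hE (by rw [card_fs]; decide +kernel)
    (iff_of_false h not_in_octad_E1)
  rw [ncard_fix_smul hk, e, chain5.card_eq_searchCount (fun _ => true)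
    (fun c => Nat.beq (Nat.land 0x80001f (fixM c)) 0x80001f)]
  · decide +kernel
  · rintro g ⟨hg, hf⟩
    exact ⟨hg, fixes_of_fix_fs hf (by decide +kernel), pass_true _ _ _,
      beq_iff.2 ((fix_fs_iff (by norm_num)).1 hf)⟩
  · intro g hg _ hl
    exact ⟨hg, (fix_fs_iff (by norm_num)).2 (beq_iff.1 hl)⟩

/-- an element of `M24` fixing six points of an octad and a point outside it is trivial -/
theorem eq_one_of_fix_seven {g : Equiv.Perm GolayPt} (hg : g ∈ M24) {o : Finset GolayPt} (ho : o ∈ octads)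
    {E : Finset GolayPt} (hE : E ⊆ o) (h6 : 6 ≤ E.card) (hf : ∀ p ∈ E, g p = p) {q : GolayPt} (hq : q ∉ o)
    (hgq : g q = q) : g = 1 := by
  obtain ⟨E', hE', hc⟩ := Finset.exists_subset_card_eq h6
  obtain ⟨k, hk, e⟩ := exists_smul_eq_six (t := fs 0x80002f) hc (by rw [card_fs]; decide +kernel)
    (iff_of_true ⟨o, ho, hE'.trans hE⟩ ⟨_, O0_mem, (fs_subset_iff (by norm_num)).2 (by decide +kernel)⟩)
  have h1 : fs 0x80002f ⊆ fs O0 := (fs_subset_iff (by norm_num)).2 (by decide +kernel)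
  have hko : k • o = fs O0 := smul_octad_eq hk ho O0_mem (by omega) (hE'.trans hE)
    fun p hp => h1 (e ▸ apply_mem_smul.2 hp)
  have h2 : ∀ p ∈ fs 0x80002f, (k * g * k⁻¹) p = p := by
    rw [← e, conj_fix_iff]; exact fun p hp => hf p (hE' hp)
  have h3 : (k * g * k⁻¹) (k q) = k q := by rw [conj_apply, hgq]
  have h4 : k q ∉ fs O0 := by rw [← hko, apply_mem_smul]; exact hq
  have h5 := chain5.forall_of_searchAll (ok := fun _ => true)
    (leaf := fun c => Nat.beq c oneC || !(Nat.beq (ap c 5) 5) || Nat.beq (fixM c) O0) (by decide +kernel)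
    ((conj_mem_M24_iff hk).2 hg) (fixes_of_fix_fs h2 (by decide +kernel)) (pass_true _ _ _)
  simp only [Bool.or_eq_true, beq_iff, Bool.not_eq_true', beq_false_iff, code_eq_one_iff] at h5
  rcases h5 with (h5 | h5) | h5
  · simpa [mul_inv_eq_one] using h5
  · exfalso
    apply h5
    rw [← apply_pt_eq_iff (by norm_num) (by norm_num)]
    exact h2 _ ((pt_mem_fs (by norm_num)).2 (by decide))
  · exfalso
    apply h4
    rw [← h5, fs_fixM]; exact Finset.mem_filter.2 ⟨Finset.mem_univ _, h3⟩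

/-- restriction to an invariant finset -/
def resHom {K : Type*} [Group K] (ι : K →* Equiv.Perm GolayPt) (E : Finset GolayPt) (h : ∀ k, ι k • E = E) :
    K →* Equiv.Perm E where
  toFun k := (ι k).subtypePerm fun p => by
    conv_lhs => rw [← h k]
    exact apply_mem_smul
  map_one' := Equiv.ext fun p => Subtype.ext (by simp)
  map_mul' a b := Equiv.ext fun p => Subtype.ext (congrArg (fun g : Equiv.Perm GolayPt => g p) (map_mul ι a b))

@[simp] theorem resHom_apply {K : Type*} [Group K] (ι : K →* Equiv.Perm GolayPt) (E : Finset GolayPt)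
    (h : ∀ k, ι k • E = E) (k : K) (p : E) : ((resHom ι E h k p : E) : GolayPt) = ι k p := rfl

theorem smul_eq_of_induce {g : Equiv.Perm GolayPt} {E : Finset GolayPt} {σ : Equiv.Perm E}
    (h : ∀ p : E, g p = σ p) : g • E = E := by
  apply Finset.eq_of_subset_of_card_le _ (card_smul g E).ge
  intro q hq
  obtain ⟨p, hp, rfl⟩ := Finset.mem_smul_finset.1 hq
  show g p ∈ E
  rw [h ⟨p, hp⟩]; exact (σ _).2

theorem card_perm_six {E : Finset GolayPt} (hE : E.card = 6) : Nat.card (Equiv.Perm E) = 720 := by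
  rw [Nat.card_eq_fintype_card, Fintype.card_perm, Fintype.card_coe, hE]; rfl

end CA.Gol
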